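import Cfsg.Agent.H935.OreO8.Gen
import Cfsg.Agent.H75.QO.Red

/-!
# Pairs of isometries of the `E8` lattice over the 39 classes of `Ω₈⁺(2)` (helper75, row 2.Co1 of S2492)

For each certificate `d` of `H935.OreO8.data` : integral isometries `A`, `B` over its generating pair, and integral isometries
`A'`, `B'` over another generating pair with `[A', B'] = -[A, B]`.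
-/

set_option autoImplicit false

namespace Cfsg.Agent.H75.QO

open Cfsg.Agent.StdO8.Model Cfsg.Agent.StdO8.Code
open Cfsg.Agent.H935.OreO8 (Dat)
open Matrix

/-- integral vectors -/
structure R8 where
  a : ℤ
  b : ℤ
  c : ℤ
  d : ℤ
  e : ℤ
  f : ℤ
  g : ℤ
  h : ℤ
  deriving DecidableEq

/-- the vector -/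
def R8.fn (x : R8) : L8 := ![x.a, x.b, x.c, x.d, x.e, x.f, x.g, x.h]

/-- inner product of coordinates -/
def R8.dot (x y : R8) : ℤ :=
  x.a * y.a + x.b * y.b + x.c * y.c + x.d * y.d + x.e * y.e + x.f * y.f + x.g * y.g + x.h * y.h

/-- a matrix, given by its columns -/
structure C8 where
  c0 : R8
  c1 : R8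
  c2 : R8
  c3 : R8
  c4 : R8
  c5 : R8
  c6 : R8
  c7 : R8

/-- one coordinate of the image -/
def lin8 (v : R8) (x0 x1 x2 x3 x4 x5 x6 x7 : ℤ) : ℤ :=
  x0 * v.a + x1 * v.b + x2 * v.c + x3 * v.d + x4 * v.e + x5 * v.f + x6 * v.g + x7 * v.h

/-- matrix times vector -/
def C8.ap (A : C8) (v : R8) : R8 :=
  ⟨lin8 v A.c0.a A.c1.a A.c2.a A.c3.a A.c4.a A.c5.a A.c6.a A.c7.a, lin8 v A.c0.b A.c1.b A.c2.b A.c3.b A.c4.b A.c5.b A.c6.b A.c7.b,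
    lin8 v A.c0.c A.c1.c A.c2.c A.c3.c A.c4.c A.c5.c A.c6.c A.c7.c, lin8 v A.c0.d A.c1.d A.c2.d A.c3.d A.c4.d A.c5.d A.c6.d A.c7.d,
    lin8 v A.c0.e A.c1.e A.c2.e A.c3.e A.c4.e A.c5.e A.c6.e A.c7.e, lin8 v A.c0.f A.c1.f A.c2.f A.c3.f A.c4.f A.c5.f A.c6.f A.c7.f,
    lin8 v A.c0.g A.c1.g A.c2.g A.c3.g A.c4.g A.c5.g A.c6.g A.c7.g, lin8 v A.c0.h A.c1.h A.c2.h A.c3.h A.c4.h A.c5.h A.c6.h A.c7.h⟩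

/-- columns -/
def C8.col (A : C8) : Fin 8 → R8 := ![A.c0, A.c1, A.c2, A.c3, A.c4, A.c5, A.c6, A.c7]

/-- the matrix -/
def C8.mat (A : C8) : M8 := Matrix.of fun i j => (A.col j).fn i

/-- one entry of the table -/
structure Ent where
  A : C8
  B : C8
  A' : C8
  B' : C8
  x : R8
  d : Dat

/-- the table -/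
def ents : List Ent := [
  ⟨⟨⟨0, 0, 0, 0, 0, 1, 0, -1⟩, ⟨0, -2, 0, -2, 0, 2, -1, 0⟩, ⟨-1, 1, 2, 1, 2, -1, -2, 1⟩, ⟨2, 1, 0, 1, 2, -1, 0, 1⟩, ⟨-1, -1, 0, 0, -2, 0, 1, -1⟩, ⟨1, -1, 1, -1, 2, 0, -2, 2⟩, ⟨-2, 2, 2, 2, 1, -3, -1, 1⟩, ⟨0, 2, 2, 2, 3, -3, -2, 2⟩⟩, ⟨⟨-1, -2, 2, 0, 0, 1, -1, -1⟩, ⟨-1, -2, 2, 1, -1, 1, 0, -3⟩, ⟨1, -2, 2, 1, 1, 1, -1, -1⟩, ⟨0, 4, 0, 2, 2, -3, 0, 2⟩, ⟨0, 0, -2, -2, -1, 0, 0, 1⟩, ⟨0, 2, 1, 2, 1, -2, 0, 0⟩, ⟨2, 0, -1, 0, 1, 0, 0, 1⟩, ⟨2, 3, 0, 2, 3, -2, 0, 2⟩⟩, ⟨⟨-1, 1, 0, -1, 0, -2, -1, 2⟩, ⟨2, 1, -2, -2, 1, 0, 0, 3⟩, ⟨0, 0, 0, -1, 1, -1, -1, 2⟩, ⟨-2, 1, 1, 1, 0, -1, -1, 0⟩, ⟨2, -1, 0, 2,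 0, 2, 2, -3⟩, ⟨1, 1, 0, 0, 2, 0, -1, 2⟩, ⟨0, -2, 1, 1, 0, 1, 0, -2⟩, ⟨-2, 0, 2, 1, 1, -1, -2, 0⟩⟩, ⟨⟨-1, -1, 2, -1, 1, -1, -3, 2⟩, ⟨-1, -1, -1, -3, -1, 0, -1, 2⟩, ⟨-3, 0, 2, 0, 0, -2, -2, 1⟩, ⟨3, 0, -1, 1, 1, 2, 2, -1⟩, ⟨0, 1, -1, 1, -1, 0, 2, -2⟩, ⟨1, -1, -2, -1, -1, 2, 2, -1⟩, ⟨-2, 1, 1, 2, -1, -1, 1, -2⟩, ⟨1, 0, 0, 2, 0, 1, 2, -2⟩⟩, ⟨-2, 1, 2, 0, 1, -2, -2, 1⟩,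
    ⟨[(125, 20), (73, 204), (157, 23), (14, 110)], [(16, 106), (1, 14), (96, 38), (2, 192), (64, 136), (4, 136)], (7, 19), 6, 125, 205, [(10, 442), (9, 152), (8, 130), (9, 213), (10, 999)], 12979446098949527772⟩⟩,
  ⟨⟨⟨0, 0, 0, 1, -1, 0, 2, -2⟩, ⟨-2, -2, 1, -1, -2, 1, 0, -2⟩, ⟨0, -3, 0, -1, -2, 2, 1, -2⟩, ⟨1, 2, 0, 0, 2, -1, -1, 3⟩, ⟨0, 0, -1, -1, 0, 0, -1, 1⟩, ⟨-1, -1, 0, -2, -1, 1, -1, 1⟩, ⟨2, -2, -1, -1, 0, 2, 0, 0⟩, ⟨2, 0, -1, -1, 1, 1, 0, 2⟩⟩, ⟨⟨3, 1, -1, 1, 2, 1, 1, 0⟩, ⟨3, 0, -3, -2, 0, 2, 2, 1⟩, ⟨2, 2, -1, 1, 1, 0, 2, 0⟩, ⟨-2, -2, 0, -1, -3, 1, 0, -2⟩, ⟨-3, 0, 2, 0, 0, -2, -2, 1⟩, ⟨-1, -1, -2, -3, -3,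 1, 1, 0⟩, ⟨-2, 1, 2, 2, 0, -2, 0, -1⟩, ⟨-2, -1, 1, 0, -2, 0, 0, -2⟩⟩, ⟨⟨1, 1, -3, -1, -1, 1, 2, 0⟩, ⟨0, 0, -1, -2, 0, 1, 0, 1⟩, ⟨-2, 0, 0, -1, -1, 0, -1, 0⟩, ⟨-1, 2, 1, 1, 1, -3, -1, 2⟩, ⟨1, -2, 2, 1, 1, 1, -1, -1⟩, ⟨-2, 1, 2, 0, 1, -2, -2, 2⟩, ⟨-2, -2, 2, 0, -1, 0, -2, -1⟩, ⟨-3, 1, 2, 1, 0, -3, -2, 1⟩⟩, ⟨⟨2, 0, 0, 2, 1, 1, 2, -2⟩, ⟨0, 0, 2, 2, 1, -1, 0, -1⟩, ⟨2, 0, 2, 2, 3, 0, -1, 0⟩, ⟨0, 2, -2, 0, -1, -1, 1, 1⟩, ⟨-2, -1, 0, -3, -1, 0, -2, 2⟩, ⟨-1, 1, 1, 1, 0, -2, -1, 1⟩, ⟨1, -1, 0, -2, 1, 1, -2, 2⟩, ⟨1, 1, -1, 0, 0, 0, 0, 1⟩⟩, ⟨0, -1, 2, 2, 1, 0, 0, -2⟩,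
    ⟨[(85, 188), (44, 70), (22, 130), (12, 238)], [(18, 35), (1, 10), (40, 130), (2, 76), (72, 140)], (5, 1), 4, 129, 230, [(10, 732), (7, 89), (6, 58), (12, 3276), (8, 103)], 874024687547986692⟩⟩,
  ⟨⟨⟨-1, 0, 1, -1, 0, -1, -2, 2⟩, ⟨-1, -1, -1, -2, -2, 0, 0, 1⟩, ⟨-1, -1, -1, -3, -2, 1, 0, 1⟩, ⟨2, -1, 1, 1, 2, 1, 0, -1⟩, ⟨0, 1, -1, 1, 0, 0, 1, -1⟩, ⟨1, -1, -1, -1, 0, 1, 1, 0⟩, ⟨1, 0, -2, -1, -1, 2, 2, -1⟩, ⟨2, -1, 0, 0, 1, 2, 1, -1⟩⟩, ⟨⟨1, 0, 2, 1, 2, 0, -1, 0⟩, ⟨2, -1, 1, 2, 1, 1, 1, -2⟩, ⟨0, 0, 1, 1, 0, 0, 1, -1⟩, ⟨-1, -2, -1, -3, -2, 1, -1, 1⟩, ⟨0, 2, -2, 0, 0, -1, 1, 1⟩, ⟨0, -2, -1, -1, -2, 1, 1, -1⟩, ⟨-1,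 1, -2, -1, -2, 0, 2, 0⟩, ⟨-2, -2, -1, -3, -3, 1, 0, 0⟩⟩, ⟨⟨0, 1, -1, -2, 0, 0, 0, 2⟩, ⟨-1, 1, 0, -1, 1, -1, -1, 2⟩, ⟨-1, 2, -1, -1, 0, -2, 0, 2⟩, ⟨0, -1, -1, 0, -2, 1, 1, -1⟩, ⟨0, -1, 2, 2, 1, 0, -1, -2⟩, ⟨-1, 0, 0, 0, 0, -1, -1, 1⟩, ⟨-1, 1, 1, 2, 0, -2, 0, -1⟩, ⟨0, 1, -1, 1, -1, -1, 1, 0⟩⟩, ⟨⟨0, 1, 0, 2, 0, 0, 2, -2⟩, ⟨0, 0, 0, 2, -1, 0, 2, -3⟩, ⟨0, 0, 2, 2, 1, 0, 0, -2⟩, ⟨-2, -2, 1, -2, -1, 0, -2, 1⟩, ⟨2, 0, -2, -2, 0, 1, 0, 2⟩, ⟨-2, -2, 1, -1, -2, 0, -1, -1⟩, ⟨1, 0, 1, -1, 2, 0, -2, 2⟩, ⟨-2, -2, 2, -2, 0, 0, -3, 1⟩⟩, ⟨1, 0, -3, -1, -2, 1, 2, 0⟩,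
    ⟨[(82, 159), (234, 158), (9, 213), (186, 174)], [(3, 48), (40, 138), (2, 76), (12, 192), (4, 8)], (5, 3), 3, 193, 194, [(11, 1420), (9, 385), (10, 644), (10, 547), (9, 116)], 8909669952309512282⟩⟩,
  ⟨⟨⟨1, 1, -2, -2, 0, 0, 0, 2⟩, ⟨3, 2, -2, 0, 2, 0, 1, 2⟩, ⟨1, 0, -2, -2, 0, 0, 0, 2⟩, ⟨-3, 1, 2, 2, 0, -2, -1, -1⟩, ⟨0, -2, 2, 1, 0, 1, 0, -2⟩, ⟨0, 2, 1, 3, 2, -2, 0, 0⟩, ⟨-1, -3, 1, -1, -1, 1, -1, -1⟩, ⟨-3, 0, 2, 1, 0, -2, -2, 0⟩⟩, ⟨⟨1, 1, -1, 1, 0, 0, 2, 0⟩, ⟨0, 1, -1, -1, 0, 0, 0, 2⟩, ⟨-1, -1, 1, -1, 0, 0, -1, 1⟩, ⟨0, 1, 1, 1, 2, -1, -1, 0⟩, ⟨-1, -1, 1, 0, -1, 0, -1, -1⟩, ⟨-1, 0, 1, -1, 1, 0, -2, 1⟩, ⟨-1,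 -2, 2, -1, 0, 0, -2, 0⟩, ⟨0, -1, 2, 0, 2, 0, -2, 0⟩⟩, ⟨⟨-1, -1, 1, -1, 0, -1, -2, 1⟩, ⟨-1, 1, 1, 0, 1, -2, -1, 1⟩, ⟨0, -2, 1, -1, 0, 1, -1, -1⟩, ⟨-1, 0, -2, -1, -3, 1, 2, -1⟩, ⟨1, 1, 1, 2, 2, 0, 0, 0⟩, ⟨-1, 1, -1, -1, -1, 0, 1, 0⟩, ⟨2, -2, 0, 0, 0, 3, 1, -2⟩, ⟨0, -2, -2, -2, -3, 3, 2, -2⟩⟩, ⟨⟨2, 0, 0, 2, 1, 1, 2, -2⟩, ⟨1, 1, 1, 1, 3, -1, -1, 1⟩, ⟨2, 0, -2, -1, 0, 1, 2, 0⟩, ⟨1, 1, -1, 0, 0, 0, 0, 1⟩, ⟨-3, -2, 1, -2, -2, 0, -2, 0⟩, ⟨1, 1, 0, -1, 2, -1, -2, 3⟩, ⟨-1, -1, -2, -3, -3, 1, 1, 0⟩, ⟨1, 1, -2, -1, -1, 0, 1, 1⟩⟩, ⟨0, 1, 1, 2, 1, -2, 0, 0⟩,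
    ⟨[(125, 31), (103, 42), (75, 144), (179, 189)], [(18, 35), (1, 36), (36, 202), (2, 64), (72, 140), (4, 136)], (4, 7), 4, 174, 14, [(11, 1540), (10, 221), (8, 181), (8, 167), (11, 464)], 9304684600192533888⟩⟩,
  ⟨⟨⟨0, 0, -1, -1, -1, 1, 0, 0⟩, ⟨1, 2, 0, 1, 1, -1, 0, 1⟩, ⟨-1, 2, 0, -1, 1, -2, -2, 3⟩, ⟨0, -2, -1, -1, -2, 1, 1, -1⟩, ⟨1, 0, 1, 1, 2, 0, 0, 0⟩, ⟨1, 1, -1, 0, 0, -1, 1, 1⟩, ⟨-1, 1, 1, 0, 2, -2, -2, 2⟩, ⟨-1, 0, -1, -1, -1, -1, 0, 1⟩⟩, ⟨⟨-2, 0, 3, 2, 1, -2, -2, -1⟩, ⟨1, 0, 2, 1, 3, -1, -2, 1⟩, ⟨0, -1, 0, 0, 0, 0, 0, -1⟩, ⟨2, 1, -2, 1, -1, 1, 3, -1⟩, ⟨0, 0, -2, -3, -1, 1, 0, 2⟩, ⟨4, 0, -2, 0, 1, 2, 2,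 0⟩, ⟨0, 0, -3, -2, -2, 1, 2, 0⟩, ⟨2, 0, -3, 0, -2, 2, 4, -2⟩⟩, ⟨⟨0, 2, 0, 2, 0, -1, 1, 0⟩, ⟨-1, 0, 2, 1, 1, -1, -2, 1⟩, ⟨0, 2, 0, 1, 1, -2, 0, 2⟩, ⟨2, -2, -2, -1, -1, 3, 2, -2⟩, ⟨-1, 0, 1, -1, 1, -1, -2, 1⟩, ⟨0, -2, 0, -1, 0, 1, -1, 0⟩, ⟨1, 1, -1, -1, 1, -1, 0, 2⟩, ⟨2, -1, -3, -2, -1, 2, 2, 0⟩⟩, ⟨⟨-1, -2, 1, -1, -1, 0, -1, 0⟩, ⟨-2, 1, 3, 1, 2, -3, -3, 2⟩, ⟨-2, 0, 1, 0, -1, -1, 0, 0⟩, ⟨1, 0, 0, 2, 0, 1, 1, -2⟩, ⟨2, 1, -2, -1, 1, 1, 1, 1⟩, ⟨-1, 2, 2, 3, 2, -2, -1, 0⟩, ⟨1, 1, -2, 0, -1, 1, 3, -1⟩, ⟨0, 0, 0, 2, -1, 1, 2, -3⟩⟩, ⟨3, 1, 0, 2, 2, 0, 1, 0⟩,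
    ⟨[(133, 241), (80, 21), (103, 44), (225, 7)], [(16, 76), (1, 234), (32, 76), (2, 4), (4, 128)], (7, 55), 4, 210, 52, [(9, 57), (8, 173), (11, 763), (8, 172), (8, 91)], 3723052490355125759⟩⟩,
  ⟨⟨⟨1, 0, 2, 2, 2, 0, 0, -1⟩, ⟨1, 0, 0, 1, 1, 1, 1, -1⟩, ⟨0, 0, 2, 2, 2, -1, -1, 0⟩, ⟨0, 0, 0, 0, 0, 0, -1, 0⟩, ⟨-1, 0, -2, -3, -2, 0, 0, 2⟩, ⟨-1, 0, 0, 0, 0, 0, -1, 0⟩, ⟨-1, 1, 0, 0, 0, -2, -1, 2⟩, ⟨-1, 1, 1, 1, 1, -2, -2, 1⟩⟩, ⟨⟨-1, -2, 0, -1, -1, 1, -1, -1⟩, ⟨0, -2, -1, -2, -1, 2, 0, 0⟩, ⟨-1, -1, 1, -2, 1, 0, -3, 2⟩, ⟨0, 0, 1, 1, 0, -1, 0, 0⟩, ⟨2, 2, -1, 1, 1, 0, 2, 0⟩, ⟨1, -1, 0, -1, 0, 1, 0, 1⟩, ⟨0, 2, 2, 1, 3,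 -2, -2, 2⟩, ⟨0, 1, 2, 1, 2, -2, -2, 2⟩⟩, ⟨⟨0, -1, 0, -1, 0, 0, -1, 0⟩, ⟨0, -2, 0, -2, 0, 1, -2, 1⟩, ⟨1, -2, 0, 0, 0, 2, 0, -2⟩, ⟨0, 0, 0, 0, 0, 0, 1, 0⟩, ⟨0, 2, 0, 2, 0, -1, 1, 0⟩, ⟨1, -2, 0, -1, 0, 2, 0, 0⟩, ⟨0, 0, 0, 2, -1, 1, 2, -3⟩, ⟨0, -1, 1, 1, 0, 1, 1, -2⟩⟩, ⟨⟨0, 1, -1, 0, 0, -1, 1, 1⟩, ⟨-2, -1, 0, -2, -1, 0, -1, 1⟩, ⟨-1, 1, -1, -1, -1, -1, 0, 2⟩, ⟨1, 0, 0, 0, 0, 1, 1, -1⟩, ⟨1, -1, 1, 1, 1, 1, -1, -1⟩, ⟨-1, -2, 0, -2, -2, 2, 0, -1⟩, ⟨1, 1, -1, 0, 0, 0, 0, 1⟩, ⟨1, 0, -1, -1, -1, 1, 1, 0⟩⟩, ⟨-2, 1, 2, 2, 1, -2, -1, -1⟩,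
    ⟨[(171, 130), (80, 205), (161, 253), (148, 113)], [(18, 231), (1, 238), (36, 194), (2, 68), (12, 192), (4, 8)], (5, 1), 6, 225, 56, [(11, 224), (6, 10), (10, 265), (10, 919), (8, 152)], 13332730836972322104⟩⟩,
  ⟨⟨⟨1, 1, 1, 3, 1, -1, 1, -1⟩, ⟨1, 2, 0, 2, 2, -2, 0, 1⟩, ⟨2, -1, 0, 1, 1, 1, 1, -1⟩, ⟨-3, 0, 1, -1, -1, -1, -1, 0⟩, ⟨1, -1, -2, -3, -1, 2, 0, 1⟩, ⟨-1, 1, -1, -1, 0, -1, 0, 1⟩, ⟨1, -3, -1, -3, -1, 3, 0, 0⟩, ⟨-2, -2, 0, -2, -2, 1, 0, -1⟩⟩, ⟨⟨-1, 0, -2, -3, -2, 0, 0, 2⟩, ⟨1, -1, -3, -2, -2, 2, 2, 0⟩, ⟨-1, 1, -1, -1, 0, -1, -1, 2⟩, ⟨2, 2, 1, 2, 3, -1, 0, 1⟩, ⟨-1, -1, 2, 2, 0, 0, 0, -3⟩, ⟨2, 1, 0, 2,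 2, 0, 1, 0⟩, ⟨-1, 1, 2, 2, 2, -2, -2, 0⟩, ⟨1, 2, 2, 2, 4, -2, -2, 2⟩⟩, ⟨⟨-1, 0, -1, -1, -1, 0, 1, 0⟩, ⟨-2, 2, -1, -1, -1, -2, 0, 2⟩, ⟨-3, 1, 2, 1, 0, -2, -1, 0⟩, ⟨1, -1, 1, 1, 1, 0, -1, 0⟩, ⟨2, 0, 0, 0, 1, 1, 0, 0⟩, ⟨-1, 1, 1, 1, 0, -2, -1, 1⟩, ⟨-1, -1, 3, 1, 1, 0, -2, -1⟩, ⟨-1, -1, 3, 2, 1, -1, -2, -1⟩⟩, ⟨⟨-2, 0, 2, 0, 1, -1, -2, 1⟩, ⟨1, 1, -1, 0, 1, 0, 1, 1⟩, ⟨-1, 2, 1, 1, 2, -2, -1, 1⟩, ⟨1, 1, 1, 2, 1, -1, 0, 0⟩, ⟨1, -2, -2, -2, -2, 2, 1, -1⟩, ⟨2, 2, -1, 2, 1, -1, 2, 0⟩, ⟨0, 0, 0, 0, 0, 0, 0, -1⟩, ⟨0, 2, 1, 2, 1, -2, 0, 0⟩⟩, ⟨1, 1, 1, 2, 1, 0, 1, -1⟩,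
    ⟨[(67, 108), (72, 18), (110, 105), (6, 155)], [(18, 163), (1, 96), (32, 68), (2, 132), (12, 192)], (3, 1), 3, 20, 148, [(12, 3798), (10, 648), (6, 44), (9, 170), (10, 818)], 4337868515354672176⟩⟩,
  ⟨⟨⟨2, 0, 1, 2, 2, 1, 0, -1⟩, ⟨3, 2, -1, 1, 2, 0, 1, 1⟩, ⟨3, 0, -2, 1, 0, 2, 3, -2⟩, ⟨-2, -2, 0, -2, -3, 1, 0, -1⟩, ⟨-2, 1, 0, -1, 0, -2, -1, 2⟩, ⟨0, 1, -2, -1, -2, 0, 2, 0⟩, ⟨0, -1, -2, -1, -2, 1, 2, -1⟩, ⟨-1, -2, -2, -2, -4, 2, 2, -2⟩⟩, ⟨⟨-3, -1, 2, -1, -1, -1, -2, 0⟩, ⟨-1, 0, 1, -1, 0, -1, -2, 2⟩, ⟨-1, 0, 0, 0, -2, 0, 1, -1⟩, ⟨0, 3, 0, 2, 2, -2, 0, 1⟩, ⟨3, -1, -2, 0, 0, 2, 2, -1⟩, ⟨1, 3, 0, 2, 2, -2, 0, 2⟩,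 ⟨2, 0, -3, 0, -2, 2, 4, -2⟩, ⟨1, 3, -1, 2, 1, -1, 2, 0⟩⟩, ⟨⟨-2, -2, -1, -2, -3, 1, 0, -1⟩, ⟨0, -3, -1, -3, -2, 3, 0, -1⟩, ⟨-2, -1, 0, -1, -2, 1, 0, -1⟩, ⟨0, 3, 1, 1, 3, -3, -2, 3⟩, ⟨2, 1, 0, 2, 1, 0, 2, -1⟩, ⟨1, 1, 0, -1, 2, 0, -1, 2⟩, ⟨0, 2, 1, 3, 1, -1, 1, -1⟩, ⟨-1, 3, 2, 2, 3, -3, -2, 2⟩⟩, ⟨⟨1, 2, -1, 0, 1, -1, 1, 1⟩, ⟨2, 0, 0, -1, 2, 0, -1, 2⟩, ⟨1, -1, -1, -1, -1, 1, 1, -1⟩, ⟨0, 1, 1, 3, 1, -1, 0, -1⟩, ⟨-2, -2, 0, -2, -2, 1, -1, 0⟩, ⟨1, -1, 1, 1, 1, 0, -1, 0⟩, ⟨-2, -2, 0, -1, -3, 1, 0, -2⟩, ⟨0, 0, 0, 2, -1, 0, 1, -2⟩⟩, ⟨-1, -2, -1, -1, -3, 2, 2, -3⟩,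
    ⟨[(15, 251), (97, 114), (210, 189), (48, 147)], [(16, 228), (1, 96), (36, 74), (2, 192), (204, 68), (4, 128)], (3, 1), 6, 80, 128, [(11, 1340), (6, 57), (10, 1009), (10, 728), (11, 1252)], 3248788740302259074⟩⟩,
  ⟨⟨⟨-2, 1, 0, 1, -1, -1, 1, -1⟩, ⟨1, 1, -1, 0, 1, 0, 1, 1⟩, ⟨0, -2, 0, 0, -1, 2, 1, -2⟩, ⟨2, 0, -2, 0, -1, 1, 2, -1⟩, ⟨0, 0, 2, 0, 2, -1, -3, 2⟩, ⟨4, 0, -2, 0, 1, 2, 2, 0⟩, ⟨0, -3, 1, -1, -1, 2, -1, -1⟩, ⟨2, -2, -2, -1, -2, 3, 2, -2⟩⟩, ⟨⟨0, 1, 0, -1, 1, -1, -2, 3⟩, ⟨0, 1, 0, 1, 0, -1, 0, 1⟩, ⟨0, 1, 1, 0, 1, -1, -1, 2⟩, ⟨0, -1, -1, 0, -2, 2, 2, -3⟩, ⟨1, 0, 0, 1, 1, 0, 1, -1⟩, ⟨1, -1, -1, 1, -2, 2,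 3, -3⟩, ⟨0, 0, 1, 0, 1, 0, 0, 0⟩, ⟨0, -1, -1, -1, -2, 2, 2, -2⟩⟩, ⟨⟨0, 0, -1, 1, -1, 0, 1, -1⟩, ⟨0, 0, 1, 3, 0, 0, 1, -3⟩, ⟨0, -1, 1, 1, 1, 0, -1, -1⟩, ⟨-2, 0, 0, -2, -1, 0, -1, 1⟩, ⟨1, 1, 1, 0, 2, -1, -1, 2⟩, ⟨-1, 0, 2, 1, 1, 0, -1, -1⟩, ⟨0, 0, 1, -1, 2, -1, -2, 2⟩, ⟨-2, -1, 1, -2, 0, 0, -2, 1⟩⟩, ⟨⟨1, 1, 0, -1, 2, -1, -2, 3⟩, ⟨0, 2, -1, 0, 0, -1, 0, 1⟩, ⟨2, 0, 0, 0, 1, 1, 0, 0⟩, ⟨-2, 0, 1, 0, -1, -1, 0, 0⟩, ⟨0, -2, -1, 0, -2, 2, 2, -3⟩, ⟨-1, 1, -1, 0, -2, 0, 2, -1⟩, ⟨1, -2, 1, 1, 0, 2, 1, -3⟩, ⟨0, 0, 1, 1, 0, 0, 1, -1⟩⟩, ⟨2, -1, -3, -2, -2, 2, 2, 0⟩,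
    ⟨[(90, 88), (234, 7), (215, 12), (249, 218)], [(16, 170), (1, 132), (40, 142), (2, 12), (12, 192), (4, 128)], (4, 1), 6, 8, 6, [(10, 467), (10, 392), (5, 17), (8, 232), (10, 845)], 16216125171541469054⟩⟩,
  ⟨⟨⟨-2, 1, 2, 1, 1, -2, -2, 0⟩, ⟨-1, 0, 0, -2, 0, -1, -2, 2⟩, ⟨0, 1, 1, 0, 1, -1, -1, 1⟩, ⟨-1, -1, 1, 1, -1, 0, 0, -1⟩, ⟨3, -1, -3, -1, -1, 3, 3, -1⟩, ⟨0, -2, 0, -2, -1, 1, -1, 1⟩, ⟨3, 1, -1, 1, 1, 1, 2, 0⟩, ⟨0, 0, 1, 1, 0, 0, 0, 0⟩⟩, ⟨⟨-1, -1, 1, 2, -1, 0, 1, -3⟩, ⟨-1, -2, 0, -1, -2, 1, 1, -2⟩, ⟨0, -1, -2, -1, -2, 1, 2, -1⟩, ⟨2, 1, -1, 0, 1, 0, 0, 1⟩, ⟨0, 1, 0, -1, 1, 0, -1, 2⟩, ⟨2, 0, -2, -2, 0, 1, 1,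 1⟩, ⟨1, 0, -2, -2, 0, 1, 0, 2⟩, ⟨2, 1, -2, -1, 1, 0, 0, 2⟩⟩, ⟨⟨-2, -1, 0, -2, -2, 0, -1, 0⟩, ⟨-1, 0, 1, -1, 0, -1, -1, 1⟩, ⟨-2, 2, 0, -1, 0, -2, -1, 2⟩, ⟨1, 1, 0, 3, 0, 0, 2, -2⟩, ⟨1, -1, 0, 0, 1, 1, 0, 0⟩, ⟨0, 2, 2, 3, 2, -2, 0, 0⟩, ⟨0, 2, -1, 0, 1, -1, 0, 2⟩, ⟨0, 3, 0, 3, 1, -2, 1, 0⟩⟩, ⟨⟨1, 0, 1, 3, 1, 0, 1, -2⟩, ⟨-1, 1, 2, 3, 1, -2, -1, -1⟩, ⟨0, 0, -1, 1, -1, 0, 1, -1⟩, ⟨2, 2, -2, -1, 1, 0, 1, 2⟩, ⟨-2, -2, 0, -3, -2, 1, -1, 0⟩, ⟨0, 2, -1, 0, 0, -1, 0, 1⟩, ⟨-1, -1, -2, -3, -2, 1, 0, 1⟩, ⟨2, 1, -3, -2, 0, 1, 1, 2⟩⟩, ⟨-1, -1, 3, 1, 2, -1, -3, 0⟩,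
    ⟨[(56, 226), (51, 17), (160, 244), (179, 196)], [(16, 76), (1, 104), (32, 132), (2, 132), (64, 136)], (1, 0), 6, 234, 37, [(12, 3845), (9, 400), (11, 1550), (10, 902), (11, 1835)], 7393056770562448293⟩⟩,
  ⟨⟨⟨1, 1, -2, -2, 0, 0, 0, 2⟩, ⟨0, -1, -1, -1, -1, 1, 0, -1⟩, ⟨2, -1, -1, -1, 0, 2, 0, 0⟩, ⟨1, 0, -1, 1, -1, 1, 3, -2⟩, ⟨-2, 0, 3, 2, 1, -2, -2, 0⟩, ⟨0, -2, 0, 1, -2, 2, 2, -4⟩, ⟨1, 0, 2, 2, 2, 0, -1, 0⟩, ⟨2, -1, 0, 1, 0, 2, 2, -2⟩⟩, ⟨⟨-2, -1, 1, -1, 0, 0, -2, 0⟩, ⟨1, 1, 0, 0, 2, 0, -1, 1⟩, ⟨-1, 1, 0, 0, 0, 0, 0, 0⟩, ⟨0, 1, -1, 1, -1, -1, 1, 0⟩, ⟨1, 0, 0, 0, 0, 0, 1, 0⟩, ⟨2, 2, -2, 1, 0, 0, 2, 0⟩, ⟨0, 1,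 -1, 0, -1, 0, 2, 0⟩, ⟨0, 1, -2, 0, -2, 0, 2, 0⟩⟩, ⟨⟨1, 1, -2, 0, -1, 1, 3, -1⟩, ⟨-1, 3, -1, 1, 0, -2, 1, 1⟩, ⟨0, 1, -2, 1, -2, 0, 3, -2⟩, ⟨1, -1, 0, -1, 0, 1, -1, 1⟩, ⟨-1, -1, 3, 1, 2, -1, -3, 0⟩, ⟨0, 2, 0, 1, 1, -2, -1, 2⟩, ⟨0, -2, 0, 0, -1, 1, 0, -2⟩, ⟨1, -1, -1, -1, -1, 1, 0, 0⟩⟩, ⟨⟨0, -1, 2, 0, 1, 0, -2, 1⟩, ⟨0, -1, 2, 0, 2, 0, -3, 1⟩, ⟨-1, -1, 3, 0, 2, -1, -3, 1⟩, ⟨3, 1, -3, 0, 0, 1, 3, 0⟩, ⟨-2, 1, -1, 0, -2, -1, 1, -1⟩, ⟨2, 1, -1, 0, 2, 0, 0, 1⟩, ⟨-2, 0, 0, -1, -1, -1, 0, 0⟩, ⟨2, 0, -2, -1, 0, 1, 2, 0⟩⟩, ⟨1, 1, -1, 0, 0, 0, 0, 1⟩,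
    ⟨[(66, 188), (93, 171), (118, 81), (135, 174)], [(24, 139), (1, 100), (36, 74), (2, 8), (72, 140), (4, 128)], (5, 7), 6, 104, 213, [(14, 13123), (12, 3684), (13, 7828), (11, 1745), (14, 15833)], 9458579216561078530⟩⟩,
  ⟨⟨⟨0, 0, 0, 1, -1, 1, 2, -2⟩, ⟨1, 1, 1, 2, 2, 0, 0, 0⟩, ⟨-1, -1, 3, 2, 1, 0, -1, -2⟩, ⟨-2, 0, 0, -2, -1, -1, -2, 2⟩, ⟨1, 1, -1, 0, 1, -1, 0, 1⟩, ⟨-1, 1, 2, 1, 2, -2, -3, 2⟩, ⟨-1, -1, 2, 0, 1, -1, -2, 0⟩, ⟨-2, -1, 2, -1, 0, -1, -3, 1⟩⟩, ⟨⟨1, 0, -2, -2, 0, 0, 0, 2⟩, ⟨2, 1, -3, -2, 0, 1, 1, 2⟩, ⟨0, -1, -1, -3, 0, 1, -1, 2⟩, ⟨0, 0, 3, 2, 2, -1, -2, 0⟩, ⟨-2, 1, 1, 2, -1, -1, 1, -2⟩, ⟨1, 1, 1,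 1, 2, 0, -1, 1⟩, ⟨-2, -1, 2, 0, 0, 0, -1, -1⟩, ⟨0, -1, 3, 1, 2, 0, -2, 0⟩⟩, ⟨⟨2, 0, 0, 0, 2, 1, -1, 1⟩, ⟨2, -3, 0, -1, 0, 3, 0, -1⟩, ⟨2, 0, -1, -1, 1, 1, 0, 2⟩, ⟨0, 1, -1, 0, 0, -1, 1, 0⟩, ⟨-3, 0, 1, 0, -2, -1, 0, -1⟩, ⟨1, -2, -2, -2, -2, 2, 2, -1⟩, ⟨-1, 2, 0, 0, 0, -2, 0, 2⟩, ⟨1, 2, -2, 0, 0, -1, 2, 1⟩⟩, ⟨⟨0, 0, 1, 2, 1, 0, 0, -1⟩, ⟨0, -1, 2, 1, 1, 0, -1, 0⟩, ⟨0, -1, -1, -1, -1, 1, 1, 0⟩, ⟨-2, 0, 0, 0, -2, -1, 0, -1⟩, ⟨1, 0, -1, -2, 0, 1, 0, 1⟩, ⟨-1, -1, 0, -1, -2, 0, 0, 0⟩, ⟨1, -1, -3, -3, -2, 2, 2, 0⟩, ⟨-1, 0, -2, -1, -3, 0, 2, -1⟩⟩, ⟨-1, 2, 0, 2, 0, -2, 0, 0⟩,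
    ⟨[(245, 97), (175, 121), (32, 196), (153, 43)], [(24, 141), (1, 172), (32, 64), (2, 196), (4, 128)], (3, 3), 3, 174, 110, [(11, 1054), (9, 410), (12, 4031), (8, 245), (12, 482)], 9250710930311120385⟩⟩,
  ⟨⟨⟨0, 0, 0, 0, 0, 1, 0, 0⟩, ⟨0, -2, 0, 0, -1, 2, 0, -2⟩, ⟨2, 0, -2, 0, 0, 2, 2, -1⟩, ⟨-2, 2, 0, 0, 0, -3, -1, 2⟩, ⟨0, -1, 1, 0, 0, 0, 0, -1⟩, ⟨-1, 0, 0, 0, 0, -1, -1, 0⟩, ⟨2, 0, -2, -1, 0, 1, 2, 0⟩, ⟨0, 2, -1, 0, 1, -2, 0, 2⟩⟩, ⟨⟨0, 1, 2, 2, 2, -2, -1, 1⟩, ⟨1, 1, 0, 1, 1, -1, 1, 0⟩, ⟨2, 0, 0, 2, 1, 0, 1, -1⟩, ⟨1, 1, -2, -1, 0, 1, 1, 1⟩, ⟨-2, -2, 0, -2, -2, 1, -1, -1⟩, ⟨2, 0, -3, -1, -1, 2, 3, -1⟩, ⟨1, -2,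 -1, -1, -1, 2, 0, -1⟩, ⟨2, 0, -3, -1, -1, 2, 2, 0⟩⟩, ⟨⟨-2, 2, 0, 1, 0, -2, 0, 0⟩, ⟨1, 0, -1, 1, 0, 1, 2, -2⟩, ⟨1, 2, -1, 1, 1, -1, 1, 0⟩, ⟨1, 0, 1, 0, 2, 0, -2, 2⟩, ⟨0, -3, 0, -2, -2, 2, 0, -1⟩, ⟨3, -1, 0, 0, 2, 2, 0, 0⟩, ⟨1, 0, 0, 0, 0, 0, 0, 0⟩, ⟨2, 1, 0, 0, 2, 0, -1, 2⟩⟩, ⟨⟨-1, 3, 2, 3, 2, -3, -1, 1⟩, ⟨-1, 2, 1, 1, 1, -2, 0, 1⟩, ⟨-1, 2, 1, 1, 1, -3, -1, 2⟩, ⟨2, -2, 0, 0, 1, 2, 0, -1⟩, ⟨1, -2, -3, -3, -3, 3, 2, -1⟩, ⟨1, -1, -1, -1, 0, 1, 1, 0⟩, ⟨0, -2, -1, -2, -2, 1, 0, 0⟩, ⟨1, -2, 0, 0, 0, 1, 0, -1⟩⟩, ⟨2, 0, 0, 1, 1, 1, 0, 0⟩,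
    ⟨[(82, 71), (88, 166), (164, 58), (207, 95)], [(16, 234), (1, 70), (32, 68), (2, 132), (72, 140), (4, 128)], (3, 1), 6, 10, 80, [(8, 202), (10, 834), (14, 4124), (13, 6154), (11, 1756)], 1123939957377974676⟩⟩,
  ⟨⟨⟨-3, 2, 2, 1, 1, -3, -2, 1⟩, ⟨-1, 2, 0, 1, 1, -2, -1, 1⟩, ⟨-1, 3, 1, 1, 2, -3, -2, 3⟩, ⟨2, 0, -2, 0, -1, 1, 3, -1⟩, ⟨2, -3, 0, -1, 0, 3, 0, -1⟩, ⟨2, 1, -2, 1, 0, 0, 2, 0⟩, ⟨2, 0, 0, 0, 1, 1, 0, 1⟩, ⟨2, 1, -1, 1, 0, 0, 2, 0⟩⟩, ⟨⟨-3, 0, 3, 0, 1, -2, -3, 1⟩, ⟨-2, 2, 0, -1, 0, -2, -1, 2⟩, ⟨-2, 2, 2, 1, 2, -3, -3, 2⟩, ⟨1, -2, -1, -1, -2, 2, 1, -1⟩, ⟨3, 0, -2, 1, 0, 2, 3, -2⟩, ⟨1, 1, -2, -1, -1, 0, 1,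 1⟩, ⟨2, 1, 0, 2, 2, 0, 0, 0⟩, ⟨1, 0, 0, 1, 0, 0, 0, 0⟩⟩, ⟨⟨0, -1, -2, -1, -3, 2, 3, -2⟩, ⟨-3, 0, 0, -1, -2, -1, 0, 0⟩, ⟨-1, 0, -2, -2, -2, 1, 1, 0⟩, ⟨0, -1, 3, 2, 2, 0, -2, -1⟩, ⟨1, 2, 0, 1, 2, -2, -1, 2⟩, ⟨-3, 0, 3, 1, 1, -2, -3, 0⟩, ⟨1, 1, -1, -1, 1, 0, -1, 2⟩, ⟨0, 0, 2, 1, 2, 0, -2, 0⟩⟩, ⟨⟨0, 0, 2, 1, 2, 0, -1, 0⟩, ⟨2, 1, 0, 0, 2, 0, 0, 2⟩, ⟨-1, 1, 2, 0, 2, -2, -2, 2⟩, ⟨1, -1, -3, -2, -2, 2, 2, -1⟩, ⟨-1, -1, 0, 0, -2, 0, 0, -1⟩, ⟨2, 0, -3, -2, -1, 1, 2, 1⟩, ⟨-3, 0, 1, -1, -1, -2, -2, 1⟩, ⟨-1, 0, -2, -2, -2, 0, 1, 0⟩⟩, ⟨-1, 1, 1, 2, 0, -1, 1, -2⟩,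
    ⟨[(240, 138), (117, 145), (230, 41), (215, 196)], [(20, 73), (1, 206), (2, 128), (192, 76), (4, 128)], (3, 3), 4, 170, 60, [(9, 468), (8, 79), (11, 1636), (9, 282), (8, 145)], 439924361429221765⟩⟩,
  ⟨⟨⟨0, -3, 0, -2, -1, 2, -1, 0⟩, ⟨2, -2, -1, -1, -1, 3, 1, -1⟩, ⟨0, -3, 2, 0, 0, 2, -1, -2⟩, ⟨0, 3, 0, 2, 2, -2, 0, 1⟩, ⟨-1, 2, 0, 0, 0, -2, 0, 1⟩, ⟨2, 2, 0, 2, 2, 0, 1, 0⟩, ⟨-1, 0, 2, 1, 1, -1, -1, -1⟩, ⟨0, 2, 2, 3, 3, -2, -1, 0⟩⟩, ⟨⟨1, -1, -2, -3, -1, 2, 1, 1⟩, ⟨0, 0, 1, -1, 1, 0, -1, 1⟩, ⟨1, 0, -1, -2, 0, 0, 0, 2⟩, ⟨-2, 1, 1, 2, 0, -2, 0, -1⟩, ⟨0, 1, 1, 2, 1, -1, -1, 0⟩, ⟨-2, 2, 2, 2, 1, -3, -1, 0⟩, ⟨0, 0,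 0, 0, 0, -1, -1, 1⟩, ⟨-1, 1, 0, 1, 0, -2, 0, 0⟩⟩, ⟨⟨-2, 1, 1, 0, 0, -1, -1, 0⟩, ⟨-1, -1, 1, 0, 0, 1, -1, -1⟩, ⟨1, -1, -1, -2, 0, 2, 0, 0⟩, ⟨0, -1, 1, 0, 0, 0, 0, 0⟩, ⟨2, 1, -2, 1, 0, 0, 2, 0⟩, ⟨1, -2, 0, -1, 0, 2, 0, 0⟩, ⟨3, 0, -2, -1, 1, 1, 1, 1⟩, ⟨2, -1, 0, -1, 1, 1, 0, 1⟩⟩, ⟨⟨2, 0, 0, 0, 1, 1, 0, 0⟩, ⟨1, 3, -1, 1, 1, -1, 1, 1⟩, ⟨1, 1, 1, 3, 1, 0, 1, -2⟩, ⟨-3, -1, 2, -1, 0, -1, -3, 1⟩, ⟨0, -1, -2, -1, -2, 1, 2, -1⟩, ⟨-2, 2, 1, 1, 1, -2, -1, 1⟩, ⟨-1, -1, 1, 2, -1, 0, 1, -3⟩, ⟨-3, -1, 3, 1, 0, -1, -2, -1⟩⟩, ⟨3, 1, 0, 2, 2, 0, 1, 0⟩,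
    ⟨[(16, 208), (217, 86), (243, 249), (144, 164)], [(18, 35), (1, 138), (36, 202), (2, 200), (192, 76), (4, 128)], (3, 3), 6, 64, 131, [(11, 720), (8, 252), (10, 832), (10, 582), (9, 265)], 6914593524071409975⟩⟩,
  ⟨⟨⟨2, -1, 1, 2, 1, 1, 1, -2⟩, ⟨3, -1, 0, 0, 2, 2, 0, 0⟩, ⟨3, 0, -1, 1, 1, 1, 1, 0⟩, ⟨-2, -1, 0, -2, -2, 0, -1, 0⟩, ⟨-2, 1, -1, -1, -1, -1, 0, 1⟩, ⟨1, -1, -2, -3, -1, 2, 0, 1⟩, ⟨-1, 1, -1, 0, -1, -1, 0, 1⟩, ⟨-1, 0, -1, -1, -2, 0, 0, 0⟩⟩, ⟨⟨2, 1, -1, -1, 2, 0, 0, 2⟩, ⟨0, 2, -1, -1, 1, -2, -1, 3⟩, ⟨2, 2, -2, 0, 1, 0, 1, 1⟩, ⟨-2, -3, 0, -2, -3, 2, 0, -2⟩, ⟨-1, 0, 2, 3, 0, -1, 0, -2⟩, ⟨-3, 0, 0, -1,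 -2, -1, -1, 0⟩, ⟨1, 0, 0, 2, 0, 1, 1, -2⟩, ⟨-1, -2, 0, -1, -2, 2, 0, -2⟩⟩, ⟨⟨-1, -1, 2, -1, 1, 0, -3, 1⟩, ⟨1, -1, 1, 1, 1, 1, -1, -1⟩, ⟨-1, -3, 0, -2, -2, 2, -1, -1⟩, ⟨2, 1, -2, -1, 1, 0, 1, 2⟩, ⟨-1, 1, 0, 2, -1, -1, 2, -2⟩, ⟨3, -1, -2, 0, 0, 2, 2, -1⟩, ⟨-2, -1, -1, -1, -3, 0, 1, -1⟩, ⟨1, -1, -2, -2, -1, 1, 1, 1⟩⟩, ⟨⟨1, -2, -1, -2, -1, 3, 1, -1⟩, ⟨-1, 0, 1, -1, 1, 0, -2, 1⟩, ⟨1, -1, 0, -2, 1, 1, -1, 1⟩, ⟨1, 0, 0, 1, 0, 0, 0, 0⟩, ⟨-2, 2, 1, 2, 0, -3, 0, 0⟩, ⟨0, 2, 1, 1, 2, -2, -2, 2⟩, ⟨0, 0, 0, 0, 0, -1, 0, 0⟩, ⟨2, 0, 0, 1, 1, 0, 0, 0⟩⟩, ⟨1, -2, -1, 0, -2, 2, 2, -2⟩,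
    ⟨[(126, 135), (234, 98), (185, 106), (179, 159)], [(16, 228), (1, 36), (36, 78), (2, 8), (192, 76), (4, 8)], (2, 1), 4, 13, 176, [(6, 39), (11, 1520), (11, 1556), (9, 387), (8, 163)], 8664961940922890768⟩⟩,
  ⟨⟨⟨0, -2, 0, 0, -1, 1, 0, -1⟩, ⟨0, -2, 0, -2, 0, 1, -1, 1⟩, ⟨0, -2, 2, 0, 1, 1, -2, 0⟩, ⟨0, 4, 0, 2, 2, -3, 0, 2⟩, ⟨0, 0, -1, -1, -1, 1, 1, -1⟩, ⟨0, 2, 1, 0, 3, -2, -2, 3⟩, ⟨1, 0, 1, 1, 1, 1, 0, -1⟩, ⟨1, 3, 1, 2, 3, -2, -1, 2⟩⟩, ⟨⟨1, -2, 1, 1, 0, 2, 1, -3⟩, ⟨0, 0, 2, 2, 2, 0, -1, -1⟩, ⟨2, 0, -1, 1, 0, 2, 2, -2⟩, ⟨-2, 0, 0, 0, -2, -1, 0, 0⟩, ⟨0, 2, -1, -1, 1, -2, -1, 3⟩, ⟨-1, 2, 1, 2, 1, -2, -1, 1⟩,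 ⟨1, 2, -3, -1, -1, 0, 2, 1⟩, ⟨0, 1, -2, 0, -2, 0, 2, 0⟩⟩, ⟨⟨-1, 2, -1, 1, -1, -1, 2, -1⟩, ⟨1, 2, -1, 2, 0, 0, 2, -1⟩, ⟨0, 3, -1, 1, 0, -2, 1, 1⟩, ⟨1, -2, 0, 0, 0, 1, 0, -1⟩, ⟨0, -1, 2, -1, 2, 0, -3, 2⟩, ⟨3, 0, -1, 1, 1, 1, 1, 0⟩, ⟨0, 0, 1, -1, 1, -1, -2, 2⟩, ⟨1, -1, 0, 0, 0, 0, 0, 0⟩⟩, ⟨⟨0, 1, 1, 2, 1, -1, -1, 0⟩, ⟨0, 1, 0, 0, 1, 0, -1, 1⟩, ⟨-3, 1, 2, 1, 0, -2, -2, 0⟩, ⟨0, 0, -1, -1, -1, 0, 1, 1⟩, ⟨1, -2, -1, -2, -1, 2, 1, -1⟩, ⟨-1, 0, 0, -2, 0, 0, -1, 2⟩, ⟨-2, 0, 1, 0, -1, -1, 0, -1⟩, ⟨-2, 0, 1, 0, -1, -1, 0, 0⟩⟩, ⟨1, 1, 0, 0, 2, 0, -1, 2⟩,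
    ⟨[(190, 3), (131, 235), (33, 114), (135, 49)], [(18, 101), (1, 160), (36, 194), (2, 4), (192, 76), (4, 128)], (6, 23), 2, 72, 180, [(8, 41), (7, 77), (11, 523), (5, 21), (11, 1914)], 13970202247726389824⟩⟩,
  ⟨⟨⟨-2, 3, 1, 2, 1, -3, -1, 1⟩, ⟨1, 3, -1, 2, 1, -2, 1, 1⟩, ⟨1, 3, -2, 0, 1, -1, 1, 2⟩, ⟨0, -2, 1, -1, 0, 1, -1, -1⟩, ⟨1, -3, -1, -2, -2, 3, 1, -1⟩, ⟨3, 0, -1, 0, 1, 1, 1, 0⟩, ⟨1, -1, -2, -3, -1, 2, 1, 1⟩, ⟨1, -1, 0, -2, 1, 1, -1, 1⟩⟩, ⟨⟨-1, 2, 1, 0, 1, -2, -1, 2⟩, ⟨-1, 0, -1, -3, -1, 0, -1, 2⟩, ⟨-1, -1, 0, -2, -1, 1, 0, 0⟩, ⟨-2, 0, 1, 2, -1, -1, 0, -2⟩, ⟨3, -1, -2, 0, 0, 2, 2, -1⟩, ⟨-2, -2, -1, -2,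 -3, 1, 0, -1⟩, ⟨1, -2, 0, 0, 0, 2, 1, -2⟩, ⟨-2, -1, 1, 1, -1, 0, 0, -2⟩⟩, ⟨⟨0, 0, 0, 0, 0, 1, 0, -1⟩, ⟨1, 0, -1, 0, -1, 1, 1, -1⟩, ⟨-2, -1, 1, -1, -1, 0, -2, 0⟩, ⟨0, 1, -1, 1, 0, -1, 1, 0⟩, ⟨0, -1, 1, 0, 0, 0, 0, 0⟩, ⟨0, 1, -1, 1, -1, -1, 1, 0⟩, ⟨-2, -2, 1, -2, -1, 0, -2, 1⟩, ⟨-1, 0, 0, 0, 0, -1, -1, 1⟩⟩, ⟨⟨1, -1, -2, -1, -1, 1, 1, 0⟩, ⟨1, -1, 0, 1, 0, 1, 1, -1⟩, ⟨-1, 0, -1, -1, -1, 0, 0, 1⟩, ⟨0, 1, -1, 0, -1, 0, 2, -1⟩, ⟨0, 1, 2, 1, 2, -1, -2, 1⟩, ⟨0, 0, 0, 1, -1, 1, 2, -2⟩, ⟨-2, 2, 1, 0, 1, -2, -2, 2⟩, ⟨-1, 1, -1, -1, -1, 0, 1, 0⟩⟩, ⟨0, 2, -2, 0, 0, -1, 1, 1⟩,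
    ⟨[(95, 180), (161, 61), (45, 192), (134, 96)], [(16, 106), (1, 170), (40, 130), (2, 8), (64, 136), (4, 136)], (6, 1), 6, 105, 102, [(10, 447), (11, 1805), (11, 1331), (10, 681), (10, 144)], 9386325238037070529⟩⟩,
  ⟨⟨⟨0, 0, 0, 0, 0, -1, 0, 0⟩, ⟨0, 0, 2, 2, 2, -1, -1, -1⟩, ⟨-2, 0, 3, 1, 1, -2, -2, 0⟩, ⟨1, 0, -2, 0, -2, 2, 3, -2⟩, ⟨0, -1, 0, -1, 0, 1, -1, 1⟩, ⟨1, 0, 1, 2, 1, 1, 1, -2⟩, ⟨-2, 0, 2, 0, 0, -1, -2, 1⟩, ⟨0, 0, 0, 0, -1, 1, 1, -1⟩⟩, ⟨⟨1, -2, 0, 0, 0, 2, 0, -2⟩, ⟨1, -1, 1, -1, 2, 1, -2, 1⟩, ⟨1, -2, -1, -2, 0, 2, 0, 0⟩, ⟨1, 1, 0, 2, 0, 0, 2, -1⟩, ⟨-2, 1, 0, -1, -1, -2, -1, 2⟩, ⟨2, 1, 0, 0, 2, 0, 0,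 2⟩, ⟨-1, 0, -2, -2, -2, 0, 1, 1⟩, ⟨1, 1, -1, 1, 0, 0, 2, 0⟩⟩, ⟨⟨1, 0, -1, -1, 1, 0, 0, 1⟩, ⟨0, 0, 0, 1, 0, 0, 1, -2⟩, ⟨0, -1, 1, 1, 1, 0, -1, -1⟩, ⟨-1, 1, -1, -1, -1, 0, 0, 1⟩, ⟨-1, 0, 2, 1, 0, -1, -1, 0⟩, ⟨-2, 0, 1, 1, -1, 0, 0, -2⟩, ⟨0, -1, 2, 1, 1, 0, -2, 0⟩, ⟨-1, -1, 0, -1, -1, 1, -1, 0⟩⟩, ⟨⟨-1, 1, 0, 1, -1, 0, 1, -1⟩, ⟨0, 0, 1, 2, 0, 0, 0, -1⟩, ⟨1, 2, 1, 2, 2, -1, 0, 1⟩, ⟨1, -1, 0, 0, 1, 1, 0, -1⟩, ⟨0, -1, -1, -2, -1, 0, 0, 1⟩, ⟨1, -1, 2, 2, 2, 0, -1, -1⟩, ⟨1, 1, 0, -1, 2, -1, -1, 3⟩, ⟨1, 1, 1, 1, 3, -1, -1, 1⟩⟩, ⟨0, 2, 1, 2, 1, -2, 0, 1⟩,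
    ⟨[(186, 234), (48, 95), (185, 42), (4, 136)], [(16, 202), (1, 134), (40, 134), (72, 140)], (5, 5), 4, 115, 117, [(11, 1342), (8, 207), (10, 449), (10, 509), (11, 1688)], 13007762571504984152⟩⟩,
  ⟨⟨⟨1, -1, 0, -1, 1, 1, -1, 0⟩, ⟨-1, -1, 2, 0, 1, -1, -2, 0⟩, ⟨-1, -1, 0, -1, 0, 0, -1, 0⟩, ⟨1, 1, 0, 3, 0, 0, 2, -2⟩, ⟨-1, 0, 0, -1, -1, 0, 0, 1⟩, ⟨-1, 1, 2, 3, 1, -2, 0, -1⟩, ⟨-1, 0, -1, -1, -1, 0, 0, 1⟩, ⟨1, 1, -1, 2, 0, 0, 2, -1⟩⟩, ⟨⟨0, -1, 0, -1, -1, 1, 0, -1⟩, ⟨-2, -2, 0, -2, -2, 1, -1, -1⟩, ⟨-1, -2, 2, 0, 0, 0, -2, -1⟩, ⟨-1, 1, 0, 1, -1, -1, 1, 0⟩, ⟨2, 1, -1, 0, 2, 0, 0, 2⟩, ⟨-2, -1, 0, 0, -2, 0, 0, -1⟩, ⟨1,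 0, 1, 1, 2, -1, -1, 1⟩, ⟨-1, 1, 1, 2, 0, -2, 0, 0⟩⟩, ⟨⟨-1, -1, 1, 1, -1, 1, 0, -2⟩, ⟨-1, 0, 0, -1, -1, 0, -1, 1⟩, ⟨-1, -2, 0, -2, -2, 2, 0, -1⟩, ⟨1, 2, -1, 0, 2, -1, 0, 2⟩, ⟨0, 0, 0, 0, 0, -1, 0, 0⟩, ⟨0, 2, -2, -2, 0, -1, 0, 3⟩, ⟨1, -2, -1, -2, -1, 2, 1, -1⟩, ⟨1, 0, -2, -2, 0, 1, 1, 1⟩⟩, ⟨⟨-1, 0, 1, 2, 0, 0, 0, -2⟩, ⟨-2, 1, 1, 1, 0, -1, 0, -1⟩, ⟨-2, -1, -1, -1, -3, 1, 1, -2⟩, ⟨0, 0, 0, 0, 0, -1, 0, 1⟩, ⟨2, 1, -1, -1, 1, 0, 0, 2⟩, ⟨-1, 1, -1, -1, -1, -1, 1, 1⟩, ⟨0, -1, -2, -3, -2, 1, 0, 1⟩, ⟨-1, -1, -1, -2, -2, 0, 0, 1⟩⟩, ⟨0, 0, 0, 0, 0, 0, 1, 0⟩,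
    ⟨[(85, 223), (51, 221), (93, 119), (252, 217)], [(4, 16), (1, 14), (32, 140), (2, 68), (72, 140), (4, 128)], (4, 7), 3, 112, 110, [(13, 4168), (12, 2769), (11, 1378), (11, 48), (10, 354)], 12309099740744352360⟩⟩,
  ⟨⟨⟨-1, 0, -1, 1, -2, 0, 2, -2⟩, ⟨-1, 3, 0, 2, 1, -3, 0, 1⟩, ⟨-1, 2, -1, 1, -1, -1, 1, 0⟩, ⟨3, -1, 0, 0, 2, 2, 0, 0⟩, ⟨-1, -1, 1, -2, 0, 0, -2, 1⟩, ⟨2, 2, 0, 1, 3, -1, -1, 2⟩, ⟨0, 0, -1, -2, -1, 1, 0, 1⟩, ⟨3, 0, -1, 0, 1, 2, 1, 0⟩⟩, ⟨⟨2, -1, 1, 1, 1, 1, 0, -1⟩, ⟨0, -2, 0, 0, -2, 1, 1, -2⟩, ⟨2, -1, -1, 0, 0, 1, 1, -1⟩, ⟨-2, 2, 2, 1, 2, -3, -2, 2⟩, ⟨-1, 0, -2, -2, -2, 1, 1, 0⟩, ⟨-3, 0, 1, 0, -1,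 -2, -1, 0⟩, ⟨1, 0, -2, -1, 0, 1, 1, 0⟩, ⟨-1, 1, 1, 0, 2, -2, -2, 2⟩⟩, ⟨⟨1, 1, 1, 1, 3, -1, -1, 1⟩, ⟨2, 0, 0, 2, 1, 1, 2, -2⟩, ⟨1, 1, 1, 1, 2, 0, 0, 0⟩, ⟨-2, -2, -1, -3, -3, 1, 0, 0⟩, ⟨-1, 1, 0, 1, -1, -1, 0, 0⟩, ⟨0, -1, -2, -1, -3, 2, 3, -2⟩, ⟨-1, 1, 1, 0, 0, -1, -1, 1⟩, ⟨-1, -1, -1, -3, -2, 1, 0, 1⟩⟩, ⟨⟨0, -2, -1, -3, -1, 1, -1, 1⟩, ⟨0, -3, -2, -3, -3, 3, 1, -1⟩, ⟨0, -2, -1, -2, -2, 2, 0, -1⟩, ⟨1, 3, 0, 2, 2, -2, 0, 2⟩, ⟨-1, 1, 2, 2, 1, -1, 0, -1⟩, ⟨1, 1, -2, 0, -1, 1, 2, 0⟩, ⟨-1, 1, 2, 2, 1, -1, -1, -1⟩, ⟨0, 3, 0, 2, 1, -2, 0, 1⟩⟩, ⟨0, -1, 2, 0, 2, 0, -3, 1⟩,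
    ⟨[(80, 13), (204, 165), (2, 12), (115, 120)], [(18, 239), (1, 162), (4, 32), (64, 128), (4, 128)], (3, 1), 3, 132, 4, [(10, 669), (11, 2045), (0, 0), (12, 4057), (10, 60)], 2719792085373938565⟩⟩,
  ⟨⟨⟨-1, 0, 2, 3, 0, -1, 0, -2⟩, ⟨-1, -2, 2, 1, 0, 1, -1, -2⟩, ⟨-2, -1, 2, 1, 0, -1, -1, -1⟩, ⟨-1, 2, 0, -1, 1, -2, -2, 3⟩, ⟨3, 0, -3, -2, 0, 2, 2, 1⟩, ⟨-1, -1, 1, -2, 1, 0, -3, 2⟩, ⟨0, 0, -2, -2, -1, 0, 1, 1⟩, ⟨-2, 1, 0, -2, 0, -2, -2, 3⟩⟩, ⟨⟨-1, 0, 0, -1, 0, 0, -1, 0⟩, ⟨-1, 1, 2, 2, 2, -2, -2, 0⟩, ⟨0, 0, 2, 1, 2, 0, -2, 0⟩, ⟨2, 1, -3, 0, -1, 1, 3, 0⟩, ⟨0, -1, 1, 0, 0, 0, 0, 0⟩, ⟨2, 2, 0, 3, 2, -1, 1, 0⟩, ⟨1, -2,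 1, 0, 0, 2, 0, -1⟩, ⟨3, 0, -2, 0, 0, 2, 2, 0⟩⟩, ⟨⟨1, 2, -1, -1, 2, -1, -1, 3⟩, ⟨0, 0, -1, -2, 0, 0, 0, 1⟩, ⟨0, 0, 1, 0, 2, -1, -2, 1⟩, ⟨-1, -2, 1, -1, -1, 1, -1, 0⟩, ⟨-1, 0, 0, 2, -2, 0, 2, -3⟩, ⟨-2, -3, 1, -2, -2, 1, -1, -1⟩, ⟨0, -1, 1, 2, 0, 0, 0, -2⟩, ⟨-1, -2, 2, 0, 0, 0, -2, 0⟩⟩, ⟨⟨-1, 1, 0, 0, 0, -2, 0, 1⟩, ⟨-1, 2, 1, 1, 2, -3, -2, 2⟩, ⟨1, 2, -2, 1, 0, -1, 2, 0⟩, ⟨2, 0, 1, 1, 2, 1, 0, 0⟩, ⟨-1, -2, 0, -1, -2, 2, 0, -2⟩, ⟨1, 2, 1, 2, 3, -1, -1, 1⟩, ⟨2, -1, -3, -1, -2, 3, 3, -2⟩, ⟨3, 0, -1, 1, 1, 2, 2, -1⟩⟩, ⟨0, 0, -1, 1, -2, 1, 2, -2⟩,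
    ⟨[(236, 146), (1, 239), (234, 76), (134, 172)], [(16, 130), (1, 138), (32, 140), (2, 200), (4, 128)], (4, 1), 4, 234, 120, [(7, 89), (9, 242), (10, 460), (12, 1732), (8, 69)], 7531009797546387957⟩⟩,
  ⟨⟨⟨0, 0, 0, 1, -1, 1, 1, -2⟩, ⟨1, -1, 1, 2, 0, 1, 1, -3⟩, ⟨1, 1, -1, 1, 0, 0, 1, -1⟩, ⟨-2, 0, 0, 0, -1, -1, 0, 0⟩, ⟨1, 1, 0, -1, 2, -1, -1, 3⟩, ⟨0, 0, 1, 2, 1, -1, 0, -1⟩, ⟨0, 2, -1, -1, 1, -2, -1, 3⟩, ⟨-2, 1, 0, 0, 0, -2, -1, 1⟩⟩, ⟨⟨1, 2, -2, 0, 0, 0, 2, 0⟩, ⟨0, 2, 0, 2, 0, -1, 1, -1⟩, ⟨1, 2, -1, 1, 0, 0, 2, 0⟩, ⟨-2, 0, 3, 1, 2, -2, -3, 1⟩, ⟨1, -3, 0, -1, -1, 2, 0, -1⟩, ⟨-1, 1, 3, 3, 2, -2, -2, 0⟩, ⟨1, -1,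 0, -1, 0, 1, 0, 1⟩, ⟨-1, 1, 2, 1, 2, -2, -2, 2⟩⟩, ⟨⟨-1, -1, 0, 0, -2, 0, 0, -1⟩, ⟨0, -1, 0, -1, -1, 0, 0, 0⟩, ⟨-2, -1, 3, 1, 0, -1, -2, -1⟩, ⟨2, 1, 0, 2, 2, 0, 1, 0⟩, ⟨0, 0, -1, -2, 0, 1, 0, 1⟩, ⟨1, 1, 1, 1, 2, -1, 0, 1⟩, ⟨-1, 0, 2, 1, 1, 0, -1, -1⟩, ⟨0, 1, 2, 3, 2, -1, 0, -1⟩⟩, ⟨⟨1, -3, 0, 0, -1, 3, 1, -3⟩, ⟨-1, -2, 0, 0, -2, 1, 1, -2⟩, ⟨-1, -3, 2, 0, -1, 1, -1, -2⟩, ⟨0, 2, 0, 0, 2, -2, -1, 2⟩, ⟨0, 3, 0, 1, 1, -2, 0, 2⟩, ⟨-1, 1, 0, 0, 0, -2, 0, 1⟩, ⟨-1, 1, 2, 1, 1, -2, -2, 1⟩, ⟨0, 1, 1, 0, 2, -2, -2, 2⟩⟩, ⟨0, 2, -1, 0, 0, -1, 0, 2⟩,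
    ⟨[(22, 45), (48, 47), (104, 56), (87, 239)], [(16, 226), (1, 10), (32, 128), (2, 64), (72, 132), (4, 8)], (6, 1), 4, 129, 65, [(9, 403), (12, 1472), (9, 67), (10, 826), (11, 1724)], 9777231119245115652⟩⟩,
  ⟨⟨⟨2, 0, 0, 1, 2, 1, 0, 0⟩, ⟨3, 0, -1, -1, 2, 1, 0, 2⟩, ⟨1, 2, -1, 0, 2, -1, 0, 2⟩, ⟨-1, 0, 1, 2, -1, -1, 1, -2⟩, ⟨-2, -1, 0, -2, -2, 0, -1, 0⟩, ⟨1, 1, -1, 0, 0, -1, 1, 1⟩, ⟨-3, 1, 0, -1, -1, -2, -1, 1⟩, ⟨-2, 2, 1, 2, 0, -3, 0, 0⟩⟩, ⟨⟨-1, 1, 1, 1, 1, -1, -1, 1⟩, ⟨-1, 1, 0, 2, -1, -1, 1, -1⟩, ⟨0, 0, -1, 1, -1, 1, 2, -2⟩, ⟨1, 1, -2, -2, 0, 0, 0, 2⟩, ⟨0, -1, 1, 0, 0, 0, 0, -1⟩, ⟨0, 1, -2, 0, -2, 0, 2, -1⟩,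 ⟨2, -1, -1, 0, 0, 2, 2, -2⟩, ⟨2, 0, -3, -2, -1, 2, 2, 0⟩⟩, ⟨⟨1, -1, -2, -2, -2, 2, 2, -1⟩, ⟨0, -1, -1, -1, -2, 1, 2, -1⟩, ⟨2, -2, -2, -2, -1, 3, 2, -1⟩, ⟨0, 0, 0, 0, 0, 0, -1, 1⟩, ⟨-2, 2, 2, 2, 2, -3, -2, 1⟩, ⟨0, 0, 0, 0, 0, 0, 0, 1⟩, ⟨1, 0, 0, 0, 2, 0, -1, 1⟩, ⟨2, 0, -1, 0, 1, 1, 0, 1⟩⟩, ⟨⟨-1, 2, -1, 1, -1, -1, 1, 0⟩, ⟨1, 1, 0, 1, 1, 0, 0, 1⟩, ⟨0, 2, 0, 0, 1, -1, -1, 2⟩, ⟨2, -1, -1, 0, 0, 2, 2, -2⟩, ⟨-1, -2, 1, -2, 0, 0, -2, 1⟩, ⟨3, -1, 0, 0, 2, 2, 0, 0⟩, ⟨-1, -1, 1, -2, 0, 0, -2, 1⟩, ⟨2, -1, -1, -1, 0, 2, 1, -1⟩⟩, ⟨-1, 1, -1, 0, -1, 0, 1, -1⟩,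
    ⟨[(103, 124), (219, 47), (246, 196), (245, 38)], [(16, 108), (1, 232), (32, 196), (2, 136), (204, 68), (4, 128)], (2, 1), 6, 74, 132, [(9, 7), (11, 1465), (11, 1934), (11, 1372), (10, 209)], 17296911895783626239⟩⟩,
  ⟨⟨⟨0, -2, 0, 0, -2, 2, 2, -3⟩, ⟨-1, 0, 1, 0, 0, 0, 0, 0⟩, ⟨-1, -2, -1, -2, -3, 2, 1, -1⟩, ⟨2, 1, -2, 0, 1, 0, 1, 1⟩, ⟨0, 2, 1, 1, 2, -2, -2, 2⟩, ⟨0, 2, -1, 0, 1, -1, 0, 2⟩, ⟨0, -1, -1, -2, -1, 1, -1, 1⟩, ⟨1, 0, -3, -2, -1, 1, 1, 1⟩⟩, ⟨⟨0, 2, -1, 0, 0, -2, 0, 2⟩, ⟨1, 1, -2, -2, 0, 0, 0, 3⟩, ⟨2, 1, -2, 0, 0, 0, 2, 1⟩, ⟨-3, -1, 3, 1, 0, -1, -2, -1⟩, ⟨1, -1, 0, 0, 0, 2, 1, -2⟩, ⟨-1, -1, 0, -1, -1,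 1, 0, 0⟩, ⟨2, 0, 0, 2, 1, 1, 2, -2⟩, ⟨-1, -1, 2, 2, 0, 0, 0, -2⟩⟩, ⟨⟨1, -1, 0, 0, 1, 1, 0, -1⟩, ⟨-1, -1, 0, 0, -1, 1, 0, -2⟩, ⟨0, 0, -2, -2, -1, 1, 1, 0⟩, ⟨1, 0, -1, 0, -1, 0, 1, 0⟩, ⟨-1, 2, 1, 1, 1, -2, -1, 2⟩, ⟨-1, 0, -1, -1, -2, 0, 0, 0⟩, ⟨0, 1, -2, -2, -1, 0, 1, 2⟩, ⟨0, 0, -2, -2, -2, 0, 1, 1⟩⟩, ⟨⟨1, 2, 0, 1, 2, -2, -1, 2⟩, ⟨0, 0, 0, 0, 1, -1, -1, 1⟩, ⟨0, 2, 0, 0, 2, -2, -1, 2⟩, ⟨1, -3, 0, -2, -1, 3, 0, -1⟩, ⟨-2, 0, 0, 0, -2, 0, 1, -1⟩, ⟨0, -3, 0, -2, -1, 2, 0, -1⟩, ⟨-1, 1, -1, -1, -1, 0, 1, 0⟩, ⟨0, -2, 0, -2, -1, 2, 0, -1⟩⟩, ⟨-3, 0, 1, 0, -2, -1, 0, -1⟩,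
    ⟨[(4, 59), (150, 102), (56, 32), (110, 103)], [(16, 72), (1, 192), (36, 198), (2, 64), (64, 128), (4, 128)], (4, 7), 4, 73, 30, [(10, 865), (12, 1693), (9, 420), (9, 187), (11, 1728)], 1639628439323285709⟩⟩,
  ⟨⟨⟨-1, -1, 1, -2, 0, 0, -2, 1⟩, ⟨0, -3, 1, -1, -1, 2, 0, -2⟩, ⟨-1, -2, 2, 0, 0, 0, -2, -1⟩, ⟨1, 2, -1, 2, 0, 0, 2, -1⟩, ⟨0, 1, 0, 1, 1, -1, 0, 1⟩, ⟨2, -1, 0, 2, 0, 2, 2, -3⟩, ⟨-1, 1, 1, 2, 1, -2, -1, 0⟩, ⟨1, 2, 0, 3, 1, -1, 1, -1⟩⟩, ⟨⟨3, 0, -3, -1, 0, 2, 2, 0⟩, ⟨3, 0, -1, 1, 1, 1, 2, -1⟩, ⟨1, -1, -2, -2, -1, 1, 1, 0⟩, ⟨-2, 1, 1, 1, -1, -1, 0, -1⟩, ⟨-2, -1, 3, 0, 1, -1, -3, 1⟩, ⟨-1, 0, 2, 2, 0, -1,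 0, -2⟩, ⟨-3, -1, 1, -2, -1, -1, -2, 1⟩, ⟨-3, 1, 1, 0, -1, -2, -1, 0⟩⟩, ⟨⟨2, 0, -2, -1, 0, 1, 1, 0⟩, ⟨2, 0, -1, 1, 1, 1, 1, -1⟩, ⟨2, -2, -3, -2, -2, 3, 2, -1⟩, ⟨0, 0, 2, 0, 2, -1, -2, 2⟩, ⟨-3, 0, 2, 1, -1, -1, -1, -1⟩, ⟨1, 0, 1, 1, 2, 0, -1, 1⟩, ⟨-1, -2, -1, -2, -3, 2, 1, -1⟩, ⟨1, -1, 0, -1, 0, 1, 0, 1⟩⟩, ⟨⟨1, 1, 2, 2, 3, -1, -2, 1⟩, ⟨2, 1, 0, 2, 1, 0, 1, 0⟩, ⟨1, 1, 0, 0, 1, -1, -1, 2⟩, ⟨-3, -1, 2, 0, -1, -1, -1, -1⟩, ⟨0, 0, -3, -2, -2, 1, 2, 0⟩, ⟨-1, -1, 0, 0, -2, 0, 1, -1⟩, ⟨0, 0, -2, -3, -1, 0, 0, 2⟩, ⟨-2, -1, 1, -1, -1, -1, -1, 0⟩⟩, ⟨2, 0, -2, 0, -1, 1, 2, 0⟩,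
    ⟨[(171, 140), (55, 158), (220, 215), (186, 130)], [(16, 162), (1, 36), (32, 64), (2, 64), (72, 140)], (3, 1), 3, 9, 217, [(11, 676), (1, 0), (11, 2025), (9, 43), (10, 629)], 7987111359971833808⟩⟩,
  ⟨⟨⟨-1, 3, 0, 0, 1, -3, -1, 3⟩, ⟨-1, 1, 1, 0, 1, -2, -1, 1⟩, ⟨-3, 0, 1, -1, -1, -2, -2, 1⟩, ⟨1, -2, 1, 0, 0, 2, 0, -1⟩, ⟨1, -1, -1, 1, -1, 2, 2, -3⟩, ⟨0, -3, 1, -1, -1, 2, 0, -2⟩, ⟨-1, -2, 0, 0, -2, 1, 0, -2⟩, ⟨0, -3, 1, -1, -1, 2, -1, -1⟩⟩, ⟨⟨1, -1, 0, 0, 0, 0, 0, 0⟩, ⟨0, 1, -1, 0, -1, -1, 1, 0⟩, ⟨0, 0, -2, -1, -2, 0, 2, 0⟩, ⟨-2, -2, 1, -2, -1, 1, -2, 0⟩, ⟨0, 2, 1, 2, 2, -1, 0, 0⟩, ⟨-2, 0, -1, -2, -2, 0, 0, 0⟩,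 ⟨0, 0, -1, 0, -1, 1, 2, -1⟩, ⟨-1, -2, -1, -3, -2, 2, 0, 0⟩⟩, ⟨⟨0, 0, -1, -1, 0, 0, 0, 0⟩, ⟨1, 1, -2, 0, 0, 0, 2, 0⟩, ⟨2, 0, -1, 1, 1, 1, 1, -1⟩, ⟨-1, 1, 2, 0, 2, -2, -3, 3⟩, ⟨0, -1, 1, 1, -1, 1, 1, -2⟩, ⟨1, 2, 0, 1, 2, -1, 0, 2⟩, ⟨1, -2, 1, 1, 0, 2, 0, -2⟩, ⟨1, 0, 1, 0, 2, 0, -2, 2⟩⟩, ⟨⟨3, -1, -2, -2, 0, 2, 1, 1⟩, ⟨1, 0, 0, -2, 2, 0, -2, 3⟩, ⟨0, -1, 0, -2, 0, 0, -1, 1⟩, ⟨-1, 1, -2, 0, -2, 0, 2, -1⟩, ⟨-2, 1, 3, 3, 1, -2, -1, -1⟩, ⟨-2, 1, 0, -1, 0, -1, -1, 1⟩, ⟨-3, 0, 2, 1, -1, -2, -1, -1⟩, ⟨-2, 1, -1, 0, -2, -1, 1, -1⟩⟩, ⟨0, 1, 2, 0, 3, -2, -3, 3⟩,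
    ⟨[(44, 71), (112, 136), (26, 188), (30, 153)], [(16, 194), (1, 206), (32, 64), (2, 136), (72, 132), (4, 8)], (5, 7), 4, 74, 148, [(9, 248), (10, 439), (10, 904), (7, 115), (9, 467)], 7627227057152119006⟩⟩,
  ⟨⟨⟨-2, -1, 1, 0, -2, 0, 0, -2⟩, ⟨-1, 1, 2, 1, 1, -1, -1, 0⟩, ⟨-1, -2, 2, 0, 0, 1, -1, -2⟩, ⟨-1, 0, 0, -1, 0, -1, -1, 2⟩, ⟨3, 1, -2, 1, 1, 1, 2, 0⟩, ⟨0, 1, 1, 0, 2, -1, -1, 2⟩, ⟨2, -2, 0, 0, 1, 2, 0, -1⟩, ⟨0, -2, 0, -2, 0, 1, -1, 1⟩⟩, ⟨⟨2, -1, -3, -2, -2, 2, 2, 0⟩, ⟨1, 1, -3, 0, -2, 1, 3, -1⟩, ⟨3, 0, -3, -1, 0, 2, 2, 0⟩, ⟨-1, 2, 3, 2, 3, -3, -3, 2⟩, ⟨-2, -1, 2, 0, 0, 0, -1, -1⟩, ⟨0, 3, 1, 3, 2, -2, 0,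 0⟩, ⟨1, -1, 1, 0, 2, 1, -1, 0⟩, ⟨1, 2, 2, 2, 4, -2, -2, 2⟩⟩, ⟨⟨-3, 0, 1, -1, -1, -2, -2, 1⟩, ⟨-1, -1, -1, -3, -1, 0, -1, 2⟩, ⟨0, 0, 0, -1, 0, -1, -1, 2⟩, ⟨2, -2, -1, 0, -1, 3, 2, -3⟩, ⟨1, 1, 1, 2, 2, 0, 0, 0⟩, ⟨3, -2, -2, -2, 0, 3, 1, 0⟩, ⟨2, 1, 0, 2, 1, 0, 1, 0⟩, ⟨3, -1, -1, 1, 0, 2, 2, -2⟩⟩, ⟨⟨1, -1, -2, -2, -1, 1, 1, 0⟩, ⟨0, 0, -1, 0, -1, 0, 2, -1⟩, ⟨1, -2, -3, -2, -3, 3, 3, -2⟩, ⟨1, 0, 2, 1, 3, 0, -2, 1⟩, ⟨-2, 2, 1, 1, 0, -2, -1, 1⟩, ⟨0, 0, 1, 1, 1, 0, 0, 0⟩, ⟨0, -1, -1, -1, -2, 2, 1, -1⟩, ⟨2, -1, 0, 0, 1, 2, 0, 0⟩⟩, ⟨0, 0, 3, 2, 2, -1, -2, 0⟩,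
    ⟨[(189, 9), (14, 13), (88, 222), (243, 228)], [(16, 98), (1, 204), (40, 134), (2, 4), (72, 132), (4, 136)], (1, 0), 4, 32, 28, [(10, 930), (11, 1785), (10, 741), (12, 2566), (12, 3037)], 2637298061044299887⟩⟩,
  ⟨⟨⟨-1, 0, 1, -1, 1, -1, -2, 1⟩, ⟨-1, 0, 2, 0, 2, -1, -2, 1⟩, ⟨0, 0, 1, -1, 1, 0, -1, 1⟩, ⟨-2, 0, 0, 0, -2, -1, 0, 0⟩, ⟨2, 0, -2, 1, -1, 2, 3, -2⟩, ⟨-2, 0, 2, 1, 0, -1, -1, 0⟩, ⟨2, 0, -2, -1, -1, 2, 2, 0⟩, ⟨-1, 1, 0, 0, -1, -1, 0, 1⟩⟩, ⟨⟨-2, 2, 2, 2, 1, -3, -1, 0⟩, ⟨0, 1, 1, 1, 1, -1, -1, 0⟩, ⟨-1, 0, 1, 1, 0, 0, 0, -2⟩, ⟨2, -1, -1, -1, 1, 1, 0, 1⟩, ⟨1, -1, -1, -1, -1, 2, 1, 0⟩, ⟨2, -2, 0, -1, 1, 2,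 -1, 0⟩, ⟨0, -1, -1, -1, -1, 2, 1, -1⟩, ⟨1, -2, -1, -2, 0, 2, 0, 0⟩⟩, ⟨⟨-1, -2, 1, -1, -1, 0, -1, 0⟩, ⟨1, -1, -2, -3, -1, 1, 0, 2⟩, ⟨0, -1, 1, -2, 1, 0, -2, 2⟩, ⟨-1, 2, -1, 1, -1, -1, 2, -1⟩, ⟨1, 0, 0, 1, 1, 1, 0, -1⟩, ⟨1, 1, -3, -2, -1, 1, 2, 1⟩, ⟨0, 1, 2, 1, 3, -1, -2, 1⟩, ⟨0, 2, 0, 1, 1, -1, 1, 0⟩⟩, ⟨⟨1, 1, -2, -1, -1, 0, 1, 1⟩, ⟨2, 0, 0, 0, 1, 0, 0, 1⟩, ⟨3, 2, -2, 1, 1, 0, 2, 1⟩, ⟨-1, -3, 0, -1, -2, 2, 0, -2⟩, ⟨-2, 1, 3, 2, 2, -2, -2, 0⟩, ⟨1, -2, 1, 0, 1, 1, -1, 0⟩, ⟨0, 2, 0, 2, 1, -1, 1, 0⟩, ⟨0, -1, -1, 0, -1, 1, 1, -1⟩⟩, ⟨-2, 2, 1, 1, 1, -3, -2, 2⟩,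
    ⟨[(104, 65), (165, 198), (186, 68), (183, 89)], [(16, 202), (1, 6), (40, 130), (2, 140), (72, 140), (4, 8)], (4, 7), 3, 249, 132, [(12, 3787), (11, 1665), (13, 6282), (10, 192), (10, 824)], 9383397192032637586⟩⟩,
  ⟨⟨⟨0, -2, -2, -2, -3, 2, 2, -1⟩, ⟨-1, 1, -2, -1, -2, 0, 2, 0⟩, ⟨-1, 0, -2, -1, -3, 0, 2, -1⟩, ⟨0, 1, 2, 0, 3, -2, -3, 3⟩, ⟨0, 1, 2, 3, 2, -1, -1, -1⟩, ⟨-1, 3, 1, 1, 2, -3, -1, 2⟩, ⟨-1, 0, 1, 1, 0, -1, -1, -1⟩, ⟨0, 1, 1, 0, 2, -2, -2, 2⟩⟩, ⟨⟨1, 1, 0, -1, 2, 0, -1, 2⟩, ⟨2, 1, 1, 2, 3, 0, 0, 0⟩, ⟨1, -1, 1, 0, 1, 1, 0, -1⟩, ⟨0, -2, 0, -1, -1, 1, -1, 0⟩, ⟨-1, 1, -1, 1, -2, -1, 2, -1⟩, ⟨2, -2, 0, 1,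 0, 2, 1, -2⟩, ⟨-1, -1, 0, 0, -2, 0, 1, -2⟩, ⟨0, -3, 0, -1, -2, 2, 0, -2⟩⟩, ⟨⟨3, 1, -1, 1, 1, 1, 2, 0⟩, ⟨2, -1, -1, 0, 0, 2, 2, -1⟩, ⟨1, 0, 0, 1, 0, 0, 1, 0⟩, ⟨-1, 2, 0, 1, 1, -2, -1, 1⟩, ⟨-2, -2, 1, -2, -1, 0, -2, 0⟩, ⟨-1, 0, 1, 1, 1, -1, -1, 0⟩, ⟨-2, -1, 1, -1, -1, -1, -2, 1⟩, ⟨-2, 2, 1, 1, 1, -3, -2, 2⟩⟩, ⟨⟨-1, 0, 0, 0, -2, 0, 1, -1⟩, ⟨1, 0, 0, 0, 0, 1, 1, -1⟩, ⟨1, -2, 0, -1, -1, 2, 0, -1⟩, ⟨-1, 2, 2, 1, 3, -3, -3, 3⟩, ⟨1, -1, -1, 0, 0, 1, 1, -1⟩, ⟨1, 1, 1, 0, 3, -1, -2, 2⟩, ⟨2, -2, -1, -1, 0, 2, 0, 0⟩, ⟨0, 0, 1, -1, 2, -1, -3, 3⟩⟩, ⟨2, 1, -2, -1, 1, 1, 1, 1⟩,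
    ⟨[(180, 86), (103, 191), (44, 241), (125, 181)], [(16, 192), (1, 38), (102, 34), (2, 196), (8, 64), (4, 8)], (1, 0), 4, 73, 52, [(10, 687), (8, 233), (12, 3983), (11, 1461), (10, 631)], 15912856173871448535⟩⟩,
  ⟨⟨⟨-1, 1, 0, 2, -1, -1, 1, -1⟩, ⟨-1, 2, 0, 2, 0, -1, 1, -1⟩, ⟨1, 2, 0, 3, 1, -1, 2, -1⟩, ⟨1, -3, -1, -2, -2, 3, 1, -2⟩, ⟨1, 0, 0, -2, 2, 0, -2, 3⟩, ⟨1, -1, 0, 0, 0, 2, 1, -2⟩, ⟨2, 0, 0, 0, 2, 0, 0, 1⟩, ⟨2, -2, 0, 0, 0, 2, 1, -2⟩⟩, ⟨⟨-1, 0, 1, -1, 1, 0, -2, 1⟩, ⟨1, 2, 0, 0, 2, -1, -1, 2⟩, ⟨0, 1, 1, 0, 2, -1, -1, 1⟩, ⟨2, -2, 0, 1, 0, 2, 1, -2⟩, ⟨-1, 1, -1, 1, -2, -1, 2, -1⟩, ⟨3, 1, 0, 2, 2, 0, 1, 0⟩,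 ⟨0, 0, -1, 0, -1, 0, 2, -1⟩, ⟨2, -1, 0, 1, 1, 1, 1, -1⟩⟩, ⟨⟨2, 1, 1, 2, 2, 0, 0, 0⟩, ⟨1, -1, 1, 2, 0, 1, 1, -2⟩, ⟨1, 1, 2, 3, 3, -1, -1, 0⟩, ⟨0, 1, -3, -1, -2, 0, 2, 0⟩, ⟨-3, -1, 1, -2, -1, -1, -2, 1⟩, ⟨-1, 0, -1, 1, -2, 0, 2, -2⟩, ⟨-1, 1, 1, 0, 2, -2, -2, 2⟩, ⟨0, 2, -2, 0, 0, -1, 1, 1⟩⟩, ⟨⟨1, -1, -1, 1, -1, 2, 2, -3⟩, ⟨-1, -1, 0, 1, -2, 1, 2, -3⟩, ⟨2, -1, -2, 0, -1, 2, 3, -2⟩, ⟨0, -1, -1, -3, -1, 1, -1, 2⟩, ⟨-1, 2, 2, 1, 2, -3, -2, 2⟩, ⟨-1, -2, 0, -2, -2, 1, 0, 0⟩, ⟨1, 1, -1, -1, 1, -1, 0, 2⟩, ⟨1, -1, -2, -3, -1, 1, 0, 2⟩⟩, ⟨-1, 2, 0, 1, 0, -2, 0, 0⟩,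
    ⟨[(195, 142), (164, 170), (126, 222), (224, 91)], [(16, 142), (1, 166), (96, 38), (2, 140), (4, 128)], (3, 3), 6, 193, 180, [(6, 13), (9, 462), (8, 142), (11, 1050), (10, 285)], 11547370252164946529⟩⟩,
  ⟨⟨⟨-1, -2, -2, -3, -3, 2, 1, -1⟩, ⟨-1, -1, -2, -2, -3, 1, 1, 0⟩, ⟨0, -2, -1, -3, -1, 2, -1, 1⟩, ⟨1, 3, 0, 1, 2, -2, 0, 2⟩, ⟨0, 0, 3, 3, 2, -1, -1, -1⟩, ⟨0, 2, 0, 0, 1, -2, -1, 3⟩, ⟨1, 0, 2, 1, 3, 0, -2, 1⟩, ⟨2, 2, 0, 0, 3, -1, -1, 3⟩⟩, ⟨⟨-1, 0, 1, -1, 0, -1, -1, 1⟩, ⟨0, -2, 0, -2, -1, 2, 0, -1⟩, ⟨0, -3, 0, -2, -2, 2, 0, -1⟩, ⟨1, 1, 1, 3, 2, -1, 0, -1⟩, ⟨0, 1, -1, 0, 0, 0, 0, 1⟩, ⟨1, -2, 0, 0, 0, 2, 0, -2⟩,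 ⟨0, -1, -1, 0, -2, 1, 1, -1⟩, ⟨0, -1, 1, 2, 0, 0, 0, -2⟩⟩, ⟨⟨-3, 0, 1, 1, -2, -1, 0, -2⟩, ⟨-3, -2, 1, -1, -2, 0, -1, -1⟩, ⟨-3, -1, 3, 0, 0, -1, -3, 0⟩, ⟨3, 0, -1, 1, 1, 1, 1, 0⟩, ⟨2, 1, -1, -1, 2, 0, 0, 2⟩, ⟨1, -2, 1, 0, 1, 1, -1, 0⟩, ⟨1, 0, 1, -1, 2, 0, -2, 2⟩, ⟨2, 0, 1, 1, 2, 0, -1, 1⟩⟩, ⟨⟨0, 0, 0, -2, 1, -1, -2, 3⟩, ⟨1, 1, -1, 0, 1, -1, 0, 2⟩, ⟨1, 1, -1, 0, 0, -1, 1, 1⟩, ⟨-1, 2, 0, 1, 0, -1, 0, 0⟩, ⟨0, -2, 1, 1, -1, 2, 1, -3⟩, ⟨0, 3, 0, 3, 1, -2, 1, 0⟩, ⟨0, -1, 0, 1, -2, 1, 2, -3⟩, ⟨0, 2, 0, 2, 0, -1, 1, -1⟩⟩, ⟨1, 0, 0, 0, 0, 0, 0, 0⟩,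
    ⟨[(183, 96), (164, 124), (250, 125), (193, 162)], [(18, 163), (1, 204), (96, 38), (2, 8), (64, 128), (4, 8)], (5, 5), 3, 153, 102, [(11, 155), (7, 39), (7, 92), (7, 8), (8, 215)], 8678572046609555062⟩⟩,
  ⟨⟨⟨-1, -1, 1, -2, 1, 0, -3, 2⟩, ⟨1, 2, -1, -1, 2, -1, -1, 3⟩, ⟨-2, 1, 0, -2, 0, -2, -2, 3⟩, ⟨1, -1, -2, 0, -2, 2, 3, -2⟩, ⟨0, 1, 1, 3, 0, -1, 1, -2⟩, ⟨1, 2, -3, 0, -1, 0, 3, 0⟩, ⟨-2, 1, 1, 1, -1, -2, 0, 0⟩, ⟨-1, 0, -1, 0, -2, 0, 2, -1⟩⟩, ⟨⟨-2, 0, 2, 0, 0, -1, -2, 0⟩, ⟨-3, 0, 0, -2, -2, -1, -1, 1⟩, ⟨-2, 0, 1, 0, -1, 0, 0, -1⟩, ⟨2, 0, 0, 0, 2, 0, 0, 1⟩, ⟨2, -1, -2, 0, -1, 2, 2, -1⟩, ⟨0, 0, -1, -2, 0, 0, 0,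 2⟩, ⟨1, 0, 0, 2, 0, 1, 2, -2⟩, ⟨1, 0, 1, 1, 2, 0, 0, 0⟩⟩, ⟨⟨2, -1, -1, 0, 0, 2, 2, -1⟩, ⟨2, -2, 1, 0, 1, 2, 0, -1⟩, ⟨3, 0, -1, 1, 1, 1, 2, -1⟩, ⟨-2, 0, -1, -1, -3, 0, 1, -1⟩, ⟨-2, 2, 2, 1, 2, -3, -3, 2⟩, ⟨0, -1, 0, -1, -1, 1, 0, -1⟩, ⟨0, 2, 0, 2, 1, -2, 0, 0⟩, ⟨0, 1, -2, 0, -2, 0, 2, -1⟩⟩, ⟨⟨1, -1, -1, 0, -2, 2, 2, -2⟩, ⟨0, -3, 0, -1, -2, 3, 1, -3⟩, ⟨-2, -1, 2, 1, -1, 0, -1, -2⟩, ⟨0, 1, 0, 1, 1, -1, 0, 1⟩, ⟨0, 2, 0, 0, 2, -2, -1, 2⟩, ⟨-1, -1, 2, 1, 1, 0, -1, -1⟩, ⟨-2, 2, 2, 1, 2, -3, -3, 2⟩, ⟨-1, 1, 2, 2, 2, -2, -2, 1⟩⟩, ⟨1, 0, 1, 1, 2, -1, -1, 1⟩,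
    ⟨[(135, 158), (11, 167), (171, 225), (8, 38)], [(6, 16), (1, 64), (32, 200), (2, 204), (72, 132), (4, 8)], (3, 1), 6, 48, 87, [(7, 8), (11, 1276), (9, 373), (10, 904), (10, 353)], 393773000931835474⟩⟩,
  ⟨⟨⟨-3, 0, 3, 2, 0, -2, -2, -1⟩, ⟨-2, 1, 2, 1, 1, -2, -2, 0⟩, ⟨-2, -1, 1, -1, -1, 0, -2, 0⟩, ⟨3, 2, -2, 1, 1, 0, 2, 1⟩, ⟨2, -2, -2, -2, -1, 3, 2, -1⟩, ⟨2, 2, -2, 0, 1, 0, 1, 1⟩, ⟨1, -2, -2, -3, -2, 3, 1, 0⟩, ⟨2, 1, -3, -1, -1, 1, 2, 1⟩⟩, ⟨⟨1, 1, -1, 1, 0, 0, 2, 0⟩, ⟨3, 1, -2, 1, 1, 1, 2, 0⟩, ⟨2, 2, -3, -1, 0, 0, 2, 2⟩, ⟨-2, 1, 2, 2, 0, -2, -1, -1⟩, ⟨-1, -2, 1, -2, 0, 1, -2, 0⟩, ⟨1, 1, -1, 1, 0, 0, 1, -1⟩,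 ⟨-1, 0, -1, -3, -1, 0, -1, 2⟩, ⟨-1, 1, 0, 0, -1, -1, 0, 0⟩⟩, ⟨⟨-2, 1, 3, 2, 2, -2, -2, 0⟩, ⟨-2, -1, 2, -1, 0, 0, -2, 0⟩, ⟨0, 1, 1, 1, 1, 0, 0, 0⟩, ⟨3, 0, -2, -1, 1, 1, 1, 1⟩, ⟨0, -1, -2, -1, -3, 1, 2, -1⟩, ⟨2, -2, -2, -3, -1, 3, 1, 0⟩, ⟨2, 1, -2, 1, -1, 1, 3, -1⟩, ⟨4, 0, -2, 0, 1, 2, 2, 0⟩⟩, ⟨⟨1, -1, -1, -1, 0, 1, 1, 0⟩, ⟨-2, -1, 1, 0, -1, 0, 0, -1⟩, ⟨0, -2, 1, 1, 0, 1, 0, -2⟩, ⟨1, 3, 1, 2, 3, -2, -1, 2⟩, ⟨-1, 0, -1, -1, -2, 0, 0, 0⟩, ⟨-1, 1, 2, 2, 1, -1, -1, 0⟩, ⟨0, -1, 1, 1, 0, 0, -1, -1⟩, ⟨1, 1, 2, 2, 3, -1, -2, 1⟩⟩, ⟨0, 0, 1, 1, 1, -1, 0, 0⟩,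
    ⟨[(150, 139), (213, 210), (160, 132), (1, 10)], [(16, 110), (1, 98), (32, 132), (2, 12), (8, 64), (4, 8)], (4, 3), 6, 59, 60, [(8, 242), (10, 881), (11, 1817), (8, 193), (10, 836)], 325699563250943551⟩⟩,
  ⟨⟨⟨3, 0, -3, -2, 0, 2, 2, 1⟩, ⟨0, 1, -1, -1, 0, 0, 1, 1⟩, ⟨1, 0, 0, -1, 1, 0, 0, 1⟩, ⟨-1, -2, 2, 0, 0, 1, -2, -1⟩, ⟨-2, 1, 1, 2, -1, -2, 0, -1⟩, ⟨-2, 0, 3, 1, 1, -1, -2, 0⟩, ⟨-1, -1, 2, 1, 0, -1, -1, -1⟩, ⟨-1, -2, 3, 0, 1, 0, -3, 0⟩⟩, ⟨⟨-1, 0, 0, 1, -2, 0, 1, -2⟩, ⟨-2, -2, 0, 0, -3, 1, 1, -3⟩, ⟨0, -1, -2, -1, -3, 1, 2, -1⟩, ⟨1, 1, 0, 0, 2, 0, -1, 2⟩, ⟨0, 0, 1, -1, 2, -1, -2, 2⟩, ⟨0, -2, -1, -2, -1, 2,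 0, 0⟩, ⟨2, 0, -1, -1, 1, 0, 0, 2⟩, ⟨2, 0, -1, -1, 1, 1, 0, 2⟩⟩, ⟨⟨-3, 1, 2, 0, 0, -2, -2, 1⟩, ⟨-1, 1, -1, -1, -1, 0, 0, 1⟩, ⟨-2, 0, -1, -1, -3, 0, 1, -1⟩, ⟨2, 0, 0, 2, 1, 1, 2, -2⟩, ⟨2, 0, -1, 0, 1, 0, 0, 1⟩, ⟨2, 0, -2, 1, -1, 2, 3, -2⟩, ⟨1, -1, -2, -1, -2, 1, 2, -1⟩, ⟨2, -1, -1, 1, -1, 2, 3, -3⟩⟩, ⟨⟨0, -1, 0, -1, 0, 1, 0, -1⟩, ⟨-2, -1, 3, 0, 1, -1, -3, 0⟩, ⟨-1, 0, 2, 0, 2, -1, -2, 1⟩, ⟨0, 2, -2, -1, -1, -1, 1, 2⟩, ⟨1, 0, 0, 2, 0, 0, 1, -1⟩, ⟨-2, 2, 2, 1, 1, -3, -2, 2⟩, ⟨0, 1, 0, 1, 1, -1, 0, 1⟩, ⟨0, 3, -1, 0, 1, -2, 0, 3⟩⟩, ⟨-1, 0, 3, 1, 2, -2, -3, 1⟩,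
    ⟨[(240, 26), (74, 89), (180, 75), (243, 145)], [(18, 171), (1, 104), (32, 204), (2, 128), (72, 132), (4, 136)], (6, 7), 4, 249, 30, [(7, 56), (10, 494), (9, 410), (10, 837), (8, 212)], 18056150458342153569⟩⟩,
  ⟨⟨⟨0, 0, 2, 2, 1, 0, 0, -1⟩, ⟨0, 2, 2, 2, 3, -2, -1, 1⟩, ⟨1, 1, 2, 3, 2, -1, 0, -1⟩, ⟨0, -1, -2, -2, -2, 2, 1, -1⟩, ⟨-1, 0, -1, -2, -1, -1, -1, 2⟩, ⟨1, 1, -1, -1, 1, 0, 0, 1⟩, ⟨0, -1, 0, 0, -1, 0, 0, -1⟩, ⟨1, -1, -2, -1, -2, 2, 2, -2⟩⟩, ⟨⟨1, 3, 1, 3, 3, -2, 0, 1⟩, ⟨0, 1, 1, 0, 2, -1, -1, 2⟩, ⟨3, 1, -2, 0, 1, 1, 2, 1⟩, ⟨-1, -2, 0, 0, -2, 1, 1, -3⟩, ⟨-1, -2, 0, -2, -2, 1, -1, 0⟩, ⟨0, -3, 0, -2, -1,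 2, 0, -1⟩, ⟨2, -1, -3, -2, -2, 2, 2, 0⟩, ⟨1, -2, -2, -1, -2, 2, 2, -2⟩⟩, ⟨⟨-1, -1, -1, -1, -2, 0, 0, 0⟩, ⟨-3, -2, 1, -2, -2, 0, -2, 0⟩, ⟨-1, -1, -2, -3, -2, 1, 0, 1⟩, ⟨1, 3, 1, 2, 3, -2, -1, 2⟩, ⟨1, 0, 0, 1, 0, 1, 2, -2⟩, ⟨-1, 1, 1, -1, 1, -1, -2, 2⟩, ⟨2, 0, -2, -1, 0, 2, 2, 0⟩, ⟨2, 2, -1, 0, 2, 0, 0, 2⟩⟩, ⟨⟨0, -2, 2, 0, 1, 0, -2, 0⟩, ⟨0, 0, 0, 0, 0, -1, -1, 1⟩, ⟨0, -3, 0, -1, -2, 2, 0, -2⟩, ⟨0, 2, 1, 1, 2, -1, -1, 1⟩, ⟨-1, 1, -2, -1, -2, 0, 2, 0⟩, ⟨0, 2, -1, 0, 0, -1, 0, 1⟩, ⟨0, -2, -2, -2, -3, 3, 2, -2⟩, ⟨0, 0, 0, 0, 0, 1, 0, -1⟩⟩, ⟨0, -1, 0, -1, 0, 1, 0, -1⟩,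
    ⟨[(205, 190), (161, 234), (249, 208), (5, 160)], [(51, 17), (1, 40), (32, 192), (2, 68), (12, 192), (4, 128)], (2, 1), 4, 11, 213, [(9, 272), (12, 3941), (11, 470), (11, 1793), (11, 1806)], 76281953585750465⟩⟩,
  ⟨⟨⟨0, 0, 2, 1, 2, 0, -2, 0⟩, ⟨2, 0, 0, 0, 2, 1, 0, 0⟩, ⟨-2, 0, 2, 0, 1, -1, -2, 0⟩, ⟨0, 0, 1, 1, 0, -1, 0, 0⟩, ⟨0, 0, -3, -1, -3, 1, 3, -1⟩, ⟨1, 1, 0, 1, 1, -1, 1, 0⟩, ⟨-3, 0, 0, -1, -2, -1, 0, 0⟩, ⟨-2, 0, 2, 1, 0, -2, -1, 0⟩⟩, ⟨⟨-1, -3, 1, -1, -1, 1, -1, -1⟩, ⟨0, -1, 2, 2, 1, 0, 0, -2⟩, ⟨-1, -1, 2, 0, 1, -1, -2, 0⟩, ⟨1, 2, 0, 1, 2, -1, -1, 2⟩, ⟨1, 1, -2, -1, -1, 1, 2, 0⟩, ⟨2, 2, 1, 3, 3, -1, 0,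 0⟩, ⟨-1, 1, 0, -1, 0, -1, -1, 1⟩, ⟨0, 2, 1, 1, 2, -2, -2, 2⟩⟩, ⟨⟨0, 2, 2, 2, 3, -3, -2, 2⟩, ⟨-1, 1, 2, 1, 1, -2, -1, 1⟩, ⟨-1, -1, 2, 0, 1, -1, -2, 1⟩, ⟨2, 0, -4, -2, -2, 2, 3, 0⟩, ⟨-1, -2, 0, -1, -2, 2, 0, -2⟩, ⟨1, -1, -2, -2, -2, 2, 2, 0⟩, ⟨-1, -3, 0, -1, -2, 2, 0, -2⟩, ⟨1, -1, -3, -2, -2, 2, 2, 0⟩⟩, ⟨⟨2, 0, -2, 1, -1, 1, 3, -2⟩, ⟨1, 2, -1, 1, 1, -1, 1, 0⟩, ⟨-1, 1, 1, 2, 0, -2, 0, -1⟩, ⟨-2, -2, 1, -1, -1, 1, -1, -1⟩, ⟨0, 0, 1, -1, 1, 0, -2, 2⟩, ⟨-2, 0, 2, 0, 1, -1, -2, 0⟩, ⟨-2, 0, 3, 1, 1, -2, -3, 1⟩, ⟨-3, -1, 3, 1, 0, -1, -2, -1⟩⟩, ⟨0, -1, 2, 2, 1, 0, -1, -1⟩,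
    ⟨[(235, 104), (48, 31), (217, 183), (22, 134)], [(18, 107), (1, 12), (32, 76), (2, 72), (64, 136), (4, 128)], (4, 1), 4, 186, 237, [(11, 1808), (1, 0), (8, 247), (10, 1001), (7, 87)], 13373731138556896585⟩⟩,
  ⟨⟨⟨1, 2, -3, 0, -1, 0, 3, 0⟩, ⟨3, 2, -1, 2, 2, 0, 2, 0⟩, ⟨3, 0, -3, 0, -1, 2, 3, -1⟩, ⟨-1, -1, 1, -2, 1, 0, -3, 2⟩, ⟨-2, -1, 3, 1, 0, -1, -2, -1⟩, ⟨2, 0, 1, 0, 3, 0, -2, 2⟩, ⟨0, -3, 0, -1, -2, 2, 0, -2⟩, ⟨0, -2, 0, -2, 0, 1, -2, 1⟩⟩, ⟨⟨2, -1, 1, 1, 1, 1, 0, -1⟩, ⟨1, 0, 1, 0, 2, 0, -2, 1⟩, ⟨1, 2, 1, 2, 2, -1, 0, 0⟩, ⟨-2, 1, 1, 1, 0, -2, -1, 1⟩, ⟨0, 0, -3, -2, -2, 1, 2, 0⟩, ⟨-1, 2, 1, 1, 2, -2, -2, 2⟩,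 ⟨-1, 2, -1, 1, -1, -1, 2, -1⟩, ⟨-2, 2, 1, 2, 0, -2, 0, 0⟩⟩, ⟨⟨0, -2, 0, -2, -1, 1, 0, 0⟩, ⟨2, -2, -2, -3, -1, 3, 1, 0⟩, ⟨2, 0, -1, 0, 0, 1, 2, -1⟩, ⟨-2, 0, 3, 2, 1, -1, -2, -1⟩, ⟨0, 3, -1, 1, 1, -2, 0, 2⟩, ⟨0, 0, 0, 0, 0, 1, 0, -1⟩, ⟨1, 3, 0, 3, 2, -2, 1, 0⟩, ⟨-1, 1, 2, 3, 1, -1, 0, -2⟩⟩, ⟨⟨-2, -1, 0, 0, -2, 0, 0, -2⟩, ⟨-1, 1, -1, 1, -2, 0, 2, -2⟩, ⟨1, -1, -3, -1, -3, 2, 3, -2⟩, ⟨0, 0, 0, -2, 1, 0, -2, 3⟩, ⟨1, 1, 1, 1, 2, -1, 0, 1⟩, ⟨1, 2, -2, -1, 0, 0, 1, 2⟩, ⟨3, -1, -2, -1, 0, 2, 2, 0⟩, ⟨2, -1, -2, -3, 0, 2, 0, 2⟩⟩, ⟨-1, -2, 2, 1, -1, 1, 0, -3⟩,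
    ⟨[(32, 192), (28, 165), (206, 235), (48, 56)], [(3, 48), (1, 142), (12, 32), (2, 68), (204, 68)], (5, 15), 6, 115, 11, [(7, 21), (8, 224), (8, 7), (8, 198), (9, 463)], 7963779238459973079⟩⟩,
  ⟨⟨⟨-1, -2, 0, 0, -2, 1, 1, -2⟩, ⟨2, -1, -2, 0, -1, 2, 2, -1⟩, ⟨1, -2, 1, 0, 1, 1, -1, 0⟩, ⟨0, 2, -1, -1, 1, -1, 0, 2⟩, ⟨0, 1, 1, 1, 1, -1, -1, 0⟩, ⟨3, 2, -2, 0, 2, 0, 1, 2⟩, ⟨0, 0, 3, 1, 3, -1, -3, 1⟩, ⟨0, 2, 1, 0, 3, -2, -2, 3⟩⟩, ⟨⟨1, 0, 0, -1, 2, 0, -2, 2⟩, ⟨1, 0, 1, -1, 2, 0, -2, 2⟩, ⟨2, -1, 0, 0, 1, 2, 0, -1⟩, ⟨0, 0, -2, -1, -2, 1, 2, 0⟩, ⟨-1, 0, 1, 2, -1, -1, 1, -2⟩, ⟨1, 0, 0, 0, 0, 1, 1, 0⟩, ⟨0, -2, 0, 1, -2,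 2, 2, -4⟩, ⟨0, -1, -1, 0, -2, 2, 2, -2⟩⟩, ⟨⟨2, 1, 0, 0, 2, 0, -1, 2⟩, ⟨2, 0, 0, -1, 2, 0, -1, 2⟩, ⟨1, 2, -1, -1, 2, -1, -1, 3⟩, ⟨0, -1, -1, 1, -2, 1, 2, -3⟩, ⟨-2, -1, 1, 0, -1, 0, 0, -1⟩, ⟨0, -1, 0, 0, 0, 0, 0, -1⟩, ⟨-2, 1, -1, -1, -1, -1, 0, 1⟩, ⟨-1, 1, -1, 1, -1, -1, 1, -1⟩⟩, ⟨⟨-2, -1, 2, 0, 0, 0, -2, 0⟩, ⟨-1, -2, -1, -2, -3, 2, 1, -1⟩, ⟨0, -3, 1, -1, -1, 2, -1, -1⟩, ⟨1, 1, -1, -1, 1, 0, 0, 1⟩, ⟨2, 2, -1, 2, 1, -1, 2, 0⟩, ⟨1, -1, -2, -2, -2, 2, 2, -1⟩, ⟨2, 0, 0, 1, 1, 0, 0, 0⟩, ⟨1, 0, 0, -1, 1, 0, -1, 1⟩⟩, ⟨0, -3, 1, 0, -1, 2, 0, -2⟩,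
    ⟨[(18, 165), (26, 53), (249, 44), (80, 111)], [(3, 48), (1, 36), (32, 196), (2, 68), (64, 136), (4, 8)], (4, 7), 6, 10, 80, [(12, 2290), (12, 2193), (10, 586), (8, 180), (12, 2114)], 7351944098296018140⟩⟩
  ]

end Cfsg.Agent.H75.QO
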